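import Mathlib.FieldTheory.IsAlgClosed.AlgebraicClosure
import Mathlib.FieldTheory.Finite.Basic
import Mathlib.LinearAlgebra.SymplecticGroup
import Mathlib.LinearAlgebra.Matrix.Charpoly.Eigs

/-!
# Eigenvalues of symplectic matrices of size eight in characteristic two

The multiset of roots of the characteristic polynomial is closed under inversion and under the
Frobenius map, which bounds the orders of the roots and their multiplicities simultaneously.
-/

set_option autoImplicit false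
set_option linter.unusedSectionVars false

namespace Cfsg.Lib.Spec.SpEight

open Polynomial

/-- The maximal element orders. -/
def tops (q : ℕ) : Finset ℕ :=
  {q ^ 4 + 1, q ^ 4 - 1, (q ^ 3 - 1) * (q + 1), (q ^ 3 + 1) * (q - 1), 2 * (q ^ 3 - 1), 2 * (q ^ 3 + 1),
    2 * ((q ^ 2 + 1) * (q + 1)), 2 * ((q ^ 2 + 1) * (q - 1)), 4 * (q ^ 2 + 1), 4 * (q ^ 2 - 1),
    8 * (q + 1), 8 * (q - 1)}

/-- The spectrum. -/
def allowed (q : ℕ) : Set ℕ := {m | ∃ T ∈ tops q, m ∣ T}

section Abstract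

variable {L : Type*} [Field L] [DecidableEq L]

/-- `r` returns to itself or its inverse after `c` steps. -/
def Rel (q : ℕ) (c : ℕ) (r : L) : Prop := r ^ q ^ c = r ∨ r ^ q ^ c = r⁻¹

/-- The first `c` images of `r` and their inverses. -/
def orb (q : ℕ) (c : ℕ) (r : L) : Finset L :=
  (Finset.range c).image (fun i => r ^ q ^ i) ∪ (Finset.range c).image (fun i => (r ^ q ^ i)⁻¹)

theorem mem_orb {q c : ℕ} {r x : L} :
    x ∈ orb q c r ↔ ∃ i < c, x = r ^ q ^ i ∨ x = (r ^ q ^ i)⁻¹ := by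
  simp only [orb, Finset.mem_union, Finset.mem_image, Finset.mem_range]
  constructor
  · rintro (⟨i, hi, rfl⟩ | ⟨i, hi, rfl⟩)
    · exact ⟨i, hi, Or.inl rfl⟩
    · exact ⟨i, hi, Or.inr rfl⟩
  · rintro ⟨i, hi, rfl | rfl⟩
    · exact Or.inl ⟨i, hi, rfl⟩
    · exact Or.inr ⟨i, hi, rfl⟩

theorem self_mem_orb {q c : ℕ} (hc : 0 < c) (r : L) : r ∈ orb q c r :=
  mem_orb.2 ⟨0, hc, Or.inl (by rw [pow_zero, pow_one])⟩

theorem inv_mem_orb {q c : ℕ} {r x : L} (h : x ∈ orb q c r) : x⁻¹ ∈ orb q c r := by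
  obtain ⟨i, hi, rfl | rfl⟩ := mem_orb.1 h
  · exact mem_orb.2 ⟨i, hi, Or.inr rfl⟩
  · exact mem_orb.2 ⟨i, hi, Or.inl (inv_inv _)⟩

theorem pow_mem_orb {q c : ℕ} {r x : L} (hrel : Rel q c r) (h : x ∈ orb q c r) : x ^ q ∈ orb q c r := by
  obtain ⟨i, hi, rfl | rfl⟩ := mem_orb.1 h
  all_goals rcases Nat.lt_or_ge (i + 1) c with h' | h'
  · exact mem_orb.2 ⟨i + 1, h', Or.inl (by rw [pow_succ, pow_mul])⟩
  · rw [← pow_mul, ← pow_succ, show i + 1 = c by omega]
    rcases hrel with e | e <;> rw [e]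
    · exact self_mem_orb (by omega) r
    · exact inv_mem_orb (self_mem_orb (by omega) r)
  · exact mem_orb.2 ⟨i + 1, h', Or.inr (by rw [inv_pow, pow_succ, pow_mul])⟩
  · rw [inv_pow, ← pow_mul, ← pow_succ, show i + 1 = c by omega]
    rcases hrel with e | e <;> rw [e]
    · exact inv_mem_orb (self_mem_orb (by omega) r)
    · rw [inv_inv]; exact self_mem_orb (by omega) r

variable {R : Multiset L} {q : ℕ}

theorem sum_le_card (s : Finset L) : ∑ x ∈ s, R.count x ≤ R.card := by
  rw [← Multiset.toFinset_sum_count_eq R]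
  refine le_trans (le_of_eq ?_) (Finset.sum_le_sum_of_subset (f := fun x => R.count x)
    (Finset.inter_subset_right : s ∩ R.toFinset ⊆ R.toFinset))
  refine (Finset.sum_subset Finset.inter_subset_left fun x hx hn => Multiset.count_eq_zero.2 fun h => hn ?_).symm
  exact Finset.mem_inter.2 ⟨hx, Multiset.mem_toFinset.2 h⟩

/-- The hypotheses on the multiset of eigenvalues. -/
structure Closed (q : ℕ) (R : Multiset L) : Prop where
  two_le : 2 ≤ q
  card : R.card = 8
  ne_zero : ∀ r ∈ R, r ≠ 0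
  two : (2 : L) = 0
  inj : Function.Injective fun x : L => x ^ q
  inv : ∀ r, R.count r⁻¹ = R.count r
  frob : ∀ r, R.count (r ^ q) = R.count r

variable (H : Closed q R)
include H

theorem Closed.iter (r : L) (i : ℕ) : R.count (r ^ q ^ i) = R.count r := by
  induction i with
  | zero => simp
  | succ i ih => rw [pow_succ, pow_mul, H.frob, ih]

theorem Closed.count_orb {c : ℕ} {r x : L} (h : x ∈ orb q c r) : R.count x = R.count r := by
  obtain ⟨i, -, rfl | rfl⟩ := mem_orb.1 h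
  · exact H.iter r i
  · rw [H.inv, H.iter]

theorem Closed.inj_iter (i : ℕ) : Function.Injective fun x : L => x ^ q ^ i := by
  induction i with
  | zero => intro a b h; simpa using h
  | succ i ih =>
    intro a b h
    simp only [pow_succ, pow_mul] at h
    exact ih (H.inj h)

theorem Closed.ne_inv {r : L} (hr : r ≠ 0) (h1 : r ≠ 1) : r ≠ r⁻¹ := fun e => h1 (by
  have h2 : r * r = 1 := by nth_rewrite 2 [e]; exact mul_inv_cancel₀ hr
  have h3 : (r - 1) * (r - 1) = 0 := by linear_combination h2 - (r - 1) * H.two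
  exact sub_eq_zero.1 (mul_self_eq_zero.1 h3))

theorem Closed.card_orb {c : ℕ} {r : L} (hr : r ≠ 0) (h1 : r ≠ 1)
    (hmin : ∀ j, 1 ≤ j → j < c → ¬ Rel q j r) : (orb q c r).card = 2 * c := by
  have key : ∀ i j, i < c → j < c → (r ^ q ^ i = r ^ q ^ j → i = j) ∧ r ^ q ^ i ≠ (r ^ q ^ j)⁻¹ := by
    have : ∀ i j, i ≤ j → j < c → (r ^ q ^ i = r ^ q ^ j → i = j) ∧ r ^ q ^ j ≠ (r ^ q ^ i)⁻¹ := by
      intro i j hij hj
      obtain ⟨d, rfl⟩ := Nat.exists_eq_add_of_le hij
      rw [add_comm i d, pow_add, pow_mul]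
      constructor
      · intro e
        have := H.inj_iter i e
        by_contra hd
        exact hmin d (by omega) (by omega) (Or.inl this.symm)
      · rw [← inv_pow]
        intro e
        have := H.inj_iter i e
        rcases Nat.eq_zero_or_pos d with rfl | hd
        · rw [pow_zero, pow_one] at this
          exact H.ne_inv hr h1 this
        · exact hmin d hd (by omega) (Or.inr this)
    intro i j hi hj
    rcases Nat.le_total i j with h | h
    · exact ⟨(this i j h hj).1, fun e => (this i j h hj).2 (by rw [e, inv_inv])⟩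
    · exact ⟨fun e => ((this j i h hi).1 e.symm).symm, (this j i h hi).2⟩
  rw [orb, Finset.card_union_of_disjoint, Finset.card_image_of_injOn, Finset.card_image_of_injOn,
    Finset.card_range, two_mul]
  · intro i hi j hj e
    exact (key i j (Finset.mem_range.1 hi) (Finset.mem_range.1 hj)).1 (inv_injective e)
  · intro i hi j hj e
    exact (key i j (Finset.mem_range.1 hi) (Finset.mem_range.1 hj)).1 e
  · rw [Finset.disjoint_left]
    intro x hx hy
    simp only [Finset.mem_image, Finset.mem_range] at hx hy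
    obtain ⟨i, hi, rfl⟩ := hx
    obtain ⟨j, hj, e⟩ := hy
    exact (key i j hi hj).2 e.symm

theorem Closed.sum_orb {c : ℕ} {r : L} (hr : r ≠ 0) (h1 : r ≠ 1)
    (hmin : ∀ j, 1 ≤ j → j < c → ¬ Rel q j r) :
    ∑ x ∈ orb q c r, R.count x = 2 * c * R.count r := by
  rw [Finset.sum_congr rfl fun x hx => H.count_orb hx, Finset.sum_const, H.card_orb hr h1 hmin, smul_eq_mul]

theorem Closed.exists_cycle {r : L} (hrR : r ∈ R) (h1 : r ≠ 1) :
    ∃ c, 1 ≤ c ∧ c ≤ 4 ∧ Rel q c r ∧ ∀ j, 1 ≤ j → j < c → ¬ Rel q j r := by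
  classical
  have hex : ∃ c, 1 ≤ c ∧ c ≤ 4 ∧ Rel q c r := by
    by_contra h
    push Not at h
    have h5 := H.sum_orb (H.ne_zero r hrR) h1 (c := 5) fun j hj hj5 => h j hj (by omega)
    have := sum_le_card (R := R) (orb q 5 r)
    have := Multiset.one_le_count_iff_mem.2 hrR
    rw [h5, H.card] at *
    omega
  refine ⟨Nat.find hex, (Nat.find_spec hex).1, (Nat.find_spec hex).2.1, (Nat.find_spec hex).2.2, ?_⟩
  intro j hj hjc hrel
  exact Nat.find_min hex hjc ⟨hj, by have := (Nat.find_spec hex).2.1; omega, hrel⟩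

theorem Closed.out_orb {c : ℕ} {r x : L} (hrel : Rel q c r) (h : x ^ q ∈ orb q c r) : x ∈ orb q c r := by
  obtain ⟨y, hy, e⟩ := Finset.surj_on_of_inj_on_of_card_le (s := orb q c r) (t := orb q c r)
    (fun y _ => y ^ q) (fun y hy => pow_mem_orb hrel hy) (fun a b _ _ e => H.inj e) le_rfl _ h
  exact H.inj e ▸ hy

theorem Closed.disjoint_orb {c d : ℕ} {r x : L} (hrel : Rel q c r) (hx : x ∉ orb q c r) :
    Disjoint (orb q c r) (orb q d x) := by
  rw [Finset.disjoint_left]
  intro y hy hy'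
  have key : ∀ i, x ^ q ^ i ∈ orb q c r → x ∈ orb q c r := by
    intro i
    induction i with
    | zero => simp
    | succ i ih =>
      intro h
      rw [pow_succ, pow_mul] at h
      exact ih (H.out_orb hrel h)
  obtain ⟨i, -, rfl | rfl⟩ := mem_orb.1 hy'
  · exact hx (key i hy)
  · exact hx (key i (by simpa using inv_mem_orb hy))

theorem Closed.mem_of_full {s : Finset L} (hs : 8 ≤ ∑ x ∈ s, R.count x) {x : L} (hx : x ∈ R) : x ∈ s := by
  by_contra hn
  have h := sum_le_card (R := R) (insert x s)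
  rw [Finset.sum_insert hn, H.card] at h
  have := Multiset.one_le_count_iff_mem.2 hx
  omega

omit H in
theorem Rel.pow_eq {c : ℕ} {r : L} (hq : 2 ≤ q) (hr : r ≠ 0) (h : Rel q c r) :
    r ^ (q ^ c - 1) = 1 ∨ r ^ (q ^ c + 1) = 1 := by
  rcases h with e | e
  · refine Or.inl (mul_right_cancel₀ hr ?_)
    rw [← pow_succ, Nat.sub_add_cancel (Nat.one_le_pow _ _ (by omega)), e, one_mul]
  · exact Or.inr (by rw [pow_succ, e, inv_mul_cancel₀ hr])

omit H in
theorem pow_orb {c : ℕ} {r x : L} {N : ℕ} (hN : r ^ N = 1) (hx : x ∈ orb q c r) : x ^ N = 1 := by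
  obtain ⟨i, -, rfl | rfl⟩ := mem_orb.1 hx
  · rw [← pow_mul, mul_comm, pow_mul, hN, one_pow]
  · rw [inv_pow, ← pow_mul, mul_comm, pow_mul, hN, one_pow, inv_one]

/-- An exponent for the roots together with a bound for their multiplicities. -/
theorem Closed.exists_bound :
    ∃ N a : ℕ, N * 2 ^ a ∈ allowed q ∧ (∀ r ∈ R, r ^ N = 1) ∧ ∀ r, R.count r ≤ 2 ^ a := by
  have hq := H.two_le
  have hmult : ∀ {r : L}, r ∈ R → 1 ≤ R.count r := fun h => Multiset.one_le_count_iff_mem.2 h
  have hsum : ∀ s : Finset L, ∑ x ∈ s, R.count x ≤ 8 := fun s => (sum_le_card s).trans_eq H.card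
  have hle : ∀ {b : ℕ}, (∀ r ∈ R, R.count r ≤ b) → ∀ r, R.count r ≤ b := fun h r => by
    by_cases hr : r ∈ R
    · exact h r hr
    · rw [Multiset.count_eq_zero.2 hr]; exact Nat.zero_le _
  have top : ∀ {N T : ℕ}, T ∈ tops q → N ∣ T → N ∈ allowed q := fun h h' => ⟨_, h, h'⟩
  have hq1 : ∀ c : ℕ, 1 ≤ q ^ c := fun c => Nat.one_le_pow _ _ (by omega)
  have hfac : q ^ 2 - 1 = (q - 1) * (q + 1) := by
    rw [mul_comm]; simpa using Nat.sq_sub_sq q 1
  have hfac4 : q ^ 4 - 1 = (q ^ 2 - 1) * (q ^ 2 + 1) := by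
    rw [mul_comm, show q ^ 4 = (q ^ 2) ^ 2 by ring]; simpa using Nat.sq_sub_sq (q ^ 2) 1
  have hd21 : q - 1 ∣ q ^ 2 - 1 ∧ q + 1 ∣ q ^ 2 - 1 := by rw [hfac]; exact ⟨dvd_mul_right _ _, dvd_mul_left _ _⟩
  have split1 : ∀ {x : L}, x ≠ 0 → Rel q 1 x → x ^ (q - 1) = 1 ∨ x ^ (q + 1) = 1 := fun hx h => by
    simpa using Rel.pow_eq hq hx h
  have pow_of_dvd : ∀ {x : L} {m n : ℕ}, x ^ m = 1 → m ∣ n → x ^ n = 1 := fun {x m n} h ⟨k, hk⟩ => by
    rw [hk, pow_mul, h, one_pow]
  have cyc1 : ∀ {x : L}, x ∈ R → x ≠ 1 → ∀ {b : ℕ}, (∀ c, 1 ≤ c → c ≤ 4 →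
      (∀ j, 1 ≤ j → j < c → ¬ Rel q j x) → Rel q c x → c ≤ b) → b ≤ 1 → Rel q 1 x := by
    intro x hx hx1 b h hb
    obtain ⟨c, hc1, hc4, hrel, hmin⟩ := H.exists_cycle hx hx1
    have := h c hc1 hc4 hmin hrel
    obtain rfl : c = 1 := by omega
    exact hrel
  by_cases h4 : ∃ r ∈ R, r ≠ 1 ∧ ∀ j, 1 ≤ j → j < 4 → ¬ Rel q j r
  · obtain ⟨r, hrR, hr1, hmin⟩ := h4
    obtain ⟨c, hc1, hc4, hrel, -⟩ := H.exists_cycle hrR hr1
    obtain rfl : c = 4 := by
      by_contra hc
      exact hmin c hc1 (by omega) hrel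
    have hs := H.sum_orb (H.ne_zero r hrR) hr1 hmin
    have hbd := hsum (orb q 4 r)
    have hcr : R.count r = 1 := by have := hmult hrR; omega
    have hall : ∀ x ∈ R, x ∈ orb q 4 r := fun x hx => H.mem_of_full (by omega) hx
    have hcnt : ∀ x, R.count x ≤ 2 ^ 0 := hle fun x hx => by rw [H.count_orb (hall x hx), hcr]; norm_num
    rcases Rel.pow_eq hq (H.ne_zero r hrR) hrel with e | e
    · exact ⟨q ^ 4 - 1, 0, top (T := q ^ 4 - 1) (by simp [tops]) (by simp), fun x hx => pow_orb e (hall x hx), hcnt⟩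
    · exact ⟨q ^ 4 + 1, 0, top (T := q ^ 4 + 1) (by simp [tops]) (by simp), fun x hx => pow_orb e (hall x hx), hcnt⟩
  push Not at h4
  by_cases h3 : ∃ r ∈ R, r ≠ 1 ∧ ∀ j, 1 ≤ j → j < 3 → ¬ Rel q j r
  · obtain ⟨r, hrR, hr1, hmin⟩ := h3
    have hrel : Rel q 3 r := by
      obtain ⟨j, hj1, hj4, hrel⟩ := h4 r hrR hr1
      obtain rfl : j = 3 := by
        by_contra hj
        exact hmin j hj1 (by omega) hrel
      exact hrel
    have hs := H.sum_orb (H.ne_zero r hrR) hr1 hmin
    have hbd := hsum (orb q 3 r)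
    have hcr : R.count r = 1 := by have := hmult hrR; omega
    have h1out : (1 : L) ∉ orb q 3 r := fun h => by
      obtain ⟨i, -, e | e⟩ := mem_orb.1 h
      · exact hr1 (H.inj_iter i (e.symm.trans (one_pow _).symm))
      · exact hr1 (H.inj_iter i (by simpa using (inv_eq_one.1 e.symm).trans (one_pow (q ^ i)).symm))
    by_cases hx : ∃ x ∈ R, x ∉ orb q 3 r ∧ x ≠ 1
    · obtain ⟨x, hxR, hxo, hx1⟩ := hx
      have both : ∀ d : ℕ, (∀ j, 1 ≤ j → j < d → ¬ Rel q j x) → 6 + 2 * d * R.count x ≤ 8 := fun d hd => by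
        have := hsum (orb q 3 r ∪ orb q d x)
        rw [Finset.sum_union (H.disjoint_orb hrel hxo), hs, H.sum_orb (H.ne_zero x hxR) hx1 hd, hcr] at this
        omega
      have hx1' : Rel q 1 x := cyc1 hxR hx1 (fun c _ _ hm _ => by
        have := both c hm; have := hmult hxR
        nlinarith) le_rfl
      have hcx : R.count x = 1 := by
        have := both 1 (fun j hj hj' => by omega); have := hmult hxR; omega
      have hall : ∀ y ∈ R, y ∈ orb q 3 r ∪ orb q 1 x := fun y hy => H.mem_of_full (by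
        rw [Finset.sum_union (H.disjoint_orb hrel hxo), hs, H.sum_orb (H.ne_zero x hxR) hx1 (c := 1)
          fun j hj hj' => by omega]
        omega) hy
      have hcnt : ∀ y, R.count y ≤ 1 := hle fun y hy => by
        rcases Finset.mem_union.1 (hall y hy) with h | h <;> rw [H.count_orb h] <;> omega
      have fin : ∀ N T : ℕ, T ∈ tops q → N ∣ T → r ^ N = 1 → x ^ N = 1 →
          ∃ N a : ℕ, N * 2 ^ a ∈ allowed q ∧ (∀ r ∈ R, r ^ N = 1) ∧ ∀ r, R.count r ≤ 2 ^ a :=
        fun N T hT hd e1 e2 => ⟨N, 0, top hT (by simpa using hd), fun y hy =>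
          (Finset.mem_union.1 (hall y hy)).elim (pow_orb e1) (pow_orb e2), hcnt⟩
      have hq3 : q - 1 ∣ q ^ 3 - 1 := by simpa using Nat.sub_dvd_pow_sub_pow q 1 3
      have hq3' : q + 1 ∣ q ^ 3 + 1 := by simpa using Odd.nat_add_dvd_pow_add_pow q 1 (n := 3) (by decide)
      rcases Rel.pow_eq hq (H.ne_zero r hrR) hrel with e | e <;>
        rcases split1 (H.ne_zero x hxR) hx1' with e' | e'
      · exact fin (q ^ 3 - 1) (2 * (q ^ 3 - 1)) (by simp [tops]) (dvd_mul_left _ _) e (pow_of_dvd e' hq3)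
      · exact fin _ ((q ^ 3 - 1) * (q + 1)) (by simp [tops]) dvd_rfl (pow_of_dvd e (dvd_mul_right _ _))
          (pow_of_dvd e' (dvd_mul_left _ _))
      · exact fin _ ((q ^ 3 + 1) * (q - 1)) (by simp [tops]) dvd_rfl (pow_of_dvd e (dvd_mul_right _ _))
          (pow_of_dvd e' (dvd_mul_left _ _))
      · exact fin (q ^ 3 + 1) (2 * (q ^ 3 + 1)) (by simp [tops]) (dvd_mul_left _ _) e (pow_of_dvd e' hq3')
    · push Not at hx
      have hone : R.count 1 ≤ 2 := by
        have := hsum (insert 1 (orb q 3 r))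
        rw [Finset.sum_insert h1out, hs, hcr] at this
        omega
      have hcnt : ∀ y, R.count y ≤ 2 ^ 1 := hle fun y hy => by
        by_cases h : y ∈ orb q 3 r
        · rw [H.count_orb h, hcr]; norm_num
        · rw [hx y hy h]; simpa using hone
      have hpow : ∀ N : ℕ, r ^ N = 1 → ∀ y ∈ R, y ^ N = 1 := fun N e y hy => by
        by_cases h : y ∈ orb q 3 r
        · exact pow_orb e h
        · rw [hx y hy h, one_pow]
      rcases Rel.pow_eq hq (H.ne_zero r hrR) hrel with e | e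
      · exact ⟨_, 1, top (T := 2 * (q ^ 3 - 1)) (by simp [tops]) (by rw [pow_one, mul_comm]), hpow _ e, hcnt⟩
      · exact ⟨_, 1, top (T := 2 * (q ^ 3 + 1)) (by simp [tops]) (by rw [pow_one, mul_comm]), hpow _ e, hcnt⟩
  push Not at h3
  have h12 : ∀ x ∈ R, x ≠ 1 → Rel q 1 x ∨ Rel q 2 x := fun x hx hx1 => by
    obtain ⟨j, hj1, hj3, hrel⟩ := h3 x hx hx1
    obtain rfl | rfl : j = 1 ∨ j = 2 := by omega
    · exact Or.inl hrel
    · exact Or.inr hrel
  have hsimple : (∀ x ∈ R, R.count x ≤ 1) →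
      ∃ N a : ℕ, N * 2 ^ a ∈ allowed q ∧ (∀ r ∈ R, r ^ N = 1) ∧ ∀ r, R.count r ≤ 2 ^ a := fun h => by
    refine ⟨q ^ 4 - 1, 0, top (T := q ^ 4 - 1) (by simp [tops]) (by simp), fun x hx => ?_, hle h⟩
    by_cases hx1 : x = 1
    · rw [hx1, one_pow]
    rw [hfac4]
    rcases h12 x hx hx1 with hh | hh
    · rcases split1 (H.ne_zero x hx) hh with e | e
      · exact pow_of_dvd e (hd21.1.mul_right _)
      · exact pow_of_dvd e (hd21.2.mul_right _)
    · rcases Rel.pow_eq hq (H.ne_zero x hx) hh with e | e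
      · exact pow_of_dvd e (dvd_mul_right _ _)
      · exact pow_of_dvd e (dvd_mul_left _ _)
  by_cases h2 : ∃ r ∈ R, r ≠ 1 ∧ ¬ Rel q 1 r
  · obtain ⟨r, hrR, hr1, hn1⟩ := h2
    have hrel : Rel q 2 r := (h12 r hrR hr1).resolve_left hn1
    have hmin : ∀ j, 1 ≤ j → j < 2 → ¬ Rel q j r := fun j hj hj' => by
      obtain rfl : j = 1 := by omega
      exact hn1
    have hs := H.sum_orb (H.ne_zero r hrR) hr1 hmin
    have hbd := hsum (orb q 2 r)
    have h1out : (1 : L) ∉ orb q 2 r := fun h => by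
      obtain ⟨i, -, e | e⟩ := mem_orb.1 h
      · exact hr1 (H.inj_iter i (e.symm.trans (one_pow _).symm))
      · exact hr1 (H.inj_iter i (by simpa using (inv_eq_one.1 e.symm).trans (one_pow (q ^ i)).symm))
    by_cases hcr : 2 ≤ R.count r
    · have hall : ∀ x ∈ R, x ∈ orb q 2 r := fun x hx => H.mem_of_full (by omega) hx
      have hcnt : ∀ x, R.count x ≤ 2 ^ 1 := hle fun x hx => by rw [H.count_orb (hall x hx)]; omega
      rcases Rel.pow_eq hq (H.ne_zero r hrR) hrel with e | e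
      · exact ⟨_, 1, top (T := 4 * (q ^ 2 - 1)) (by simp [tops]) ⟨2, by ring⟩, fun x hx => pow_orb e (hall x hx), hcnt⟩
      · exact ⟨_, 1, top (T := 4 * (q ^ 2 + 1)) (by simp [tops]) ⟨2, by ring⟩, fun x hx => pow_orb e (hall x hx), hcnt⟩
    have hcr : R.count r = 1 := by have := hmult hrR; omega
    by_cases hall1 : ∀ x ∈ R, R.count x ≤ 1
    · exact hsimple hall1
    push Not at hall1
    obtain ⟨x, hxR, hx2⟩ := hall1
    have hxo : x ∉ orb q 2 r := fun h => by rw [H.count_orb h, hcr] at hx2; omega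
    have mix : ∀ {y : L}, y ∈ R → y ∉ orb q 2 r → y ≠ 1 → Rel q 1 y := fun {y} hy hyo hy1 => by
      by_contra hn
      have hd : ∀ j, 1 ≤ j → j < 2 → ¬ Rel q j y := fun j hj hj' => by
        obtain rfl : j = 1 := by omega
        exact hn
      have hx1 := hsum (insert x (orb q 2 r ∪ orb q 2 y))
      by_cases hxy : x ∈ orb q 2 y
      · have h := hsum (orb q 2 r ∪ orb q 2 y)
        rw [Finset.sum_union (H.disjoint_orb hrel hyo), hs, H.sum_orb (H.ne_zero y hy) hy1 hd, hcr,
          ← H.count_orb hxy] at h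
        omega
      · rw [Finset.sum_insert (by simp [hxo, hxy]), Finset.sum_union (H.disjoint_orb hrel hyo), hs,
          H.sum_orb (H.ne_zero y hy) hy1 hd, hcr] at hx1
        have := hmult hy
        omega
    have pair : ∀ {y : L}, y ∈ R → y ∉ orb q 2 r → y ≠ 1 →
        (∀ z ∈ R, z ∈ orb q 2 r ∪ orb q 1 y ∨ z = 1) → (∀ z, R.count z ≤ 2 ^ 1) →
        ∃ N a : ℕ, N * 2 ^ a ∈ allowed q ∧ (∀ r ∈ R, r ^ N = 1) ∧ ∀ r, R.count r ≤ 2 ^ a := by
      intro y hy hyo hy1 hall hcnt
      have fin : ∀ N T : ℕ, T ∈ tops q → N * 2 ∣ T → r ^ N = 1 → y ^ N = 1 →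
          ∃ N a : ℕ, N * 2 ^ a ∈ allowed q ∧ (∀ r ∈ R, r ^ N = 1) ∧ ∀ r, R.count r ≤ 2 ^ a :=
        fun N T hT hd e1 e2 => ⟨N, 1, top hT (by simpa using hd), fun z hz => by
          rcases hall z hz with h | h
          · exact (Finset.mem_union.1 h).elim (pow_orb e1) (pow_orb e2)
          · rw [h, one_pow], hcnt⟩
      rcases Rel.pow_eq hq (H.ne_zero r hrR) hrel with e | e <;>
        rcases split1 (H.ne_zero y hy) (mix hy hyo hy1) with e' | e'
      · exact fin _ (4 * (q ^ 2 - 1)) (by simp [tops]) ⟨2, by ring⟩ e (pow_of_dvd e' hd21.1)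
      · exact fin _ (4 * (q ^ 2 - 1)) (by simp [tops]) ⟨2, by ring⟩ e (pow_of_dvd e' hd21.2)
      · exact fin _ (2 * ((q ^ 2 + 1) * (q - 1))) (by simp [tops]) (by rw [mul_comm])
          (pow_of_dvd e (dvd_mul_right _ _)) (pow_of_dvd e' (dvd_mul_left _ _))
      · exact fin _ (2 * ((q ^ 2 + 1) * (q + 1))) (by simp [tops]) (by rw [mul_comm])
          (pow_of_dvd e (dvd_mul_right _ _)) (pow_of_dvd e' (dvd_mul_left _ _))
    by_cases hx1 : x = 1
    · subst hx1
      by_cases hy : ∃ y ∈ R, y ∉ orb q 2 r ∧ y ≠ 1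
      · obtain ⟨y, hy, hyo, hy1⟩ := hy
        have h1y : (1 : L) ∉ orb q 1 y := fun h => by
          obtain ⟨i, hi, e⟩ := mem_orb.1 h
          obtain rfl : i = 0 := by omega
          rcases e with e | e <;> simp [eq_comm] at e <;> exact hy1 e
        have hd : Disjoint (orb q 2 r) (orb q 1 y) := H.disjoint_orb hrel hyo
        have hsy := H.sum_orb (H.ne_zero y hy) hy1 (c := 1) fun j hj hj' => by omega
        have hb := hsum (insert 1 (orb q 2 r ∪ orb q 1 y))
        rw [Finset.sum_insert (by simp [hxo, h1y]), Finset.sum_union hd, hs, hsy, hcr] at hb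
        have := hmult hy
        have hfull : ∀ z ∈ R, z ∈ insert 1 (orb q 2 r ∪ orb q 1 y) := fun z hz => H.mem_of_full (by
          rw [Finset.sum_insert (by simp [hxo, h1y]), Finset.sum_union hd, hs, hsy, hcr]; omega) hz
        refine pair hy hyo hy1 (fun z hz => ?_) (hle fun z hz => ?_)
        · exact (Finset.mem_insert.1 (hfull z hz)).symm
        · rcases Finset.mem_insert.1 (hfull z hz) with h | h
          · rw [h]; omega
          · rcases Finset.mem_union.1 h with h | h <;> rw [H.count_orb h] <;> omega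
      · push Not at hy
        have hb := hsum (insert 1 (orb q 2 r))
        rw [Finset.sum_insert hxo, hs, hcr] at hb
        have hcnt : ∀ z, R.count z ≤ 2 ^ 2 := hle fun z hz => by
          by_cases h : z ∈ orb q 2 r
          · rw [H.count_orb h, hcr]; norm_num
          · rw [hy z hz h]; omega
        have hpow : ∀ N : ℕ, r ^ N = 1 → ∀ z ∈ R, z ^ N = 1 := fun N e z hz => by
          by_cases h : z ∈ orb q 2 r
          · exact pow_orb e h
          · rw [hy z hz h, one_pow]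
        rcases Rel.pow_eq hq (H.ne_zero r hrR) hrel with e | e
        · exact ⟨_, 2, top (T := 4 * (q ^ 2 - 1)) (by simp [tops]) ⟨1, by ring⟩, hpow _ e, hcnt⟩
        · exact ⟨_, 2, top (T := 4 * (q ^ 2 + 1)) (by simp [tops]) ⟨1, by ring⟩, hpow _ e, hcnt⟩
    · have hb := hsum (orb q 2 r ∪ orb q 1 x)
      have hsx := H.sum_orb (H.ne_zero x hxR) hx1 (c := 1) fun j hj hj' => by omega
      rw [Finset.sum_union (H.disjoint_orb hrel hxo), hs, hsx, hcr] at hb
      have hfull : ∀ z ∈ R, z ∈ orb q 2 r ∪ orb q 1 x := fun z hz => H.mem_of_full (by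
        rw [Finset.sum_union (H.disjoint_orb hrel hxo), hs, hsx, hcr]; omega) hz
      refine pair hxR hxo hx1 (fun z hz => Or.inl (hfull z hz)) (hle fun z hz => ?_)
      rcases Finset.mem_union.1 (hfull z hz) with h | h <;> rw [H.count_orb h] <;> omega
  push Not at h2
  have hroot : ∀ x ∈ R, x ^ (q ^ 2 - 1) = 1 := fun x hx => by
    by_cases hx1 : x = 1
    · rw [hx1, one_pow]
    · exact (split1 (H.ne_zero x hx) (h2 x hx hx1)).elim (pow_of_dvd · hd21.1) (pow_of_dvd · hd21.2)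
  have hhalf : ∀ x ∈ R, x ≠ 1 → 2 * R.count x ≤ 8 := fun x hx hx1 => by
    have := hsum (orb q 1 x)
    rw [H.sum_orb (H.ne_zero x hx) hx1 (c := 1) fun j hj hj' => by omega] at this
    omega
  by_cases h5 : R.count 1 ≤ 4
  · exact ⟨_, 2, top (T := 4 * (q ^ 2 - 1)) (by simp [tops]) (by rw [mul_comm]; norm_num), hroot,
      hle fun x hx => by
        by_cases hx1 : x = 1
        · subst hx1; simpa using h5
        · have := hhalf x hx hx1; omega⟩
  · have hcnt : ∀ x, R.count x ≤ 2 ^ 3 := fun x => by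
      have := hsum {x}
      simpa using this
    by_cases hy : ∃ y ∈ R, y ≠ 1
    · obtain ⟨y, hy, hy1⟩ := hy
      have h1y : (1 : L) ∉ orb q 1 y := fun h => by
        obtain ⟨i, hi, e⟩ := mem_orb.1 h
        obtain rfl : i = 0 := by omega
        rcases e with e | e <;> simp [eq_comm] at e <;> exact hy1 e
      have hsy := H.sum_orb (H.ne_zero y hy) hy1 (c := 1) fun j hj hj' => by omega
      have hone : ∀ z ∈ R, z ∈ insert 1 (orb q 1 y) := fun z hz => by
        by_contra hn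
        simp only [Finset.mem_insert, not_or] at hn
        have hrel1 := h2 y hy hy1
        have hb := hsum (insert 1 (orb q 1 y ∪ orb q 1 z))
        have h1z : (1 : L) ∉ orb q 1 z := fun h => by
          obtain ⟨i, hi, e⟩ := mem_orb.1 h
          obtain rfl : i = 0 := by omega
          rcases e with e | e <;> simp [eq_comm] at e <;> exact hn.1 e
        rw [Finset.sum_insert (by simp [h1y, h1z]), Finset.sum_union (H.disjoint_orb hrel1 hn.2), hsy,
          H.sum_orb (H.ne_zero z hz) hn.1 (c := 1) fun j hj hj' => by omega] at hb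
        have := hmult hy
        have := hmult hz
        omega
      have hpow : ∀ N : ℕ, y ^ N = 1 → ∀ z ∈ R, z ^ N = 1 := fun N e z hz => by
        rcases Finset.mem_insert.1 (hone z hz) with h | h
        · rw [h, one_pow]
        · exact pow_orb e h
      rcases split1 (H.ne_zero y hy) (h2 y hy hy1) with e | e
      · exact ⟨_, 3, top (T := 8 * (q - 1)) (by simp [tops]) (by rw [mul_comm]; norm_num), hpow _ e, hcnt⟩
      · exact ⟨_, 3, top (T := 8 * (q + 1)) (by simp [tops]) (by rw [mul_comm]; norm_num), hpow _ e, hcnt⟩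
    · push Not at hy
      exact ⟨q - 1, 3, top (T := 8 * (q - 1)) (by simp [tops]) (by rw [mul_comm]; norm_num),
        fun z hz => by rw [hy z hz, one_pow], hcnt⟩

end Abstract

end Cfsg.Lib.Spec.SpEight
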