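import Cfsg.Agent.Lib.Spec.SpEight.Types
import Cfsg.Agent.Lib.Spec.SpEight.Roots

/-!
# Affine maps with orthogonal linear part

`Tor` records element orders of isometries of odd order, `Block` those of the two-parts.
-/

set_option autoImplicit false
set_option linter.unusedSectionVars false
set_option linter.style.haveILetI false

namespace Cfsg.Lib.Spec.SpEight

open Cfsg Cfsg.Lib.Linear.Orth Module
open scoped Matrix

universe u

variable {ι κ : Type} [Fintype ι] [DecidableEq ι] [Fintype κ] [DecidableEq κ]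
  {F : Type u} [Field F] [Fintype F] [CharP F 2]

/-- The affine map `x ↦ g x + v`. -/
def aff (g : GL ι F) (v : ι → F) : Equiv.Perm (ι → F) where
  toFun x := g.val *ᵥ x + v
  invFun y := (g⁻¹ : GL ι F).val *ᵥ (y - v)
  left_inv x := by simp only [add_sub_cancel_right]; exact inv_act g x
  right_inv y := by simp only; rw [act_inv, sub_add_cancel]

theorem aff_apply (g : GL ι F) (v x : ι → F) : aff g v x = g.val *ᵥ x + v := rfl

theorem aff_mul (g h : GL ι F) (v w : ι → F) : aff g v * aff h w = aff (g * h) (g.val *ᵥ w + v) :=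
  Equiv.ext fun x => by
    rw [Equiv.Perm.mul_apply, aff_apply, aff_apply, aff_apply, mul_act, Matrix.mulVec_add, add_assoc]

theorem aff_one : aff (1 : GL ι F) 0 = 1 := Equiv.ext fun x => by
  rw [aff_apply, Units.val_one, Matrix.one_mulVec, add_zero]; rfl

/-- The linear maps among the affine ones. -/
def affHom : GL ι F →* Equiv.Perm (ι → F) where
  toFun g := aff g 0
  map_one' := aff_one
  map_mul' g h := by rw [aff_mul, Matrix.mulVec_zero, add_zero]

theorem orderOf_aff_zero (g : GL ι F) : orderOf (aff g (0 : ι → F)) = orderOf g :=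
  orderOf_injective affHom (fun g h e => gl_ext fun x => by
    have := Equiv.congr_fun e x
    simpa [affHom, aff_apply] using this) g

theorem aff_injective {g h : GL ι F} {v w : ι → F} (e : aff g v = aff h w) : g = h ∧ v = w := by
  have h0 : v = w := by simpa [aff_apply] using Equiv.congr_fun e 0
  subst h0
  exact ⟨gl_ext fun x => by simpa [aff_apply] using Equiv.congr_fun e x, rfl⟩

theorem aff_pow (g : GL ι F) (v : ι → F) (n : ℕ) :
    aff g v ^ n = aff (g ^ n) (∑ i ∈ Finset.range n, (g ^ i).val *ᵥ v) := by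
  induction n with
  | zero => simp [aff_one]
  | succ n ih => rw [pow_succ, ih, aff_mul, pow_succ, Finset.sum_range_succ, add_comm]

theorem orderOf_inr (u : GL κ F) (w : κ → F) :
    orderOf (aff (inrGL ι u) (Sum.elim (0 : ι → F) w)) = orderOf (aff u w) := by
  have hp : ∀ (n : ℕ) (x : ι ⊕ κ → F), (aff (inrGL ι u) (Sum.elim (0 : ι → F) w) ^ n) x =
      Sum.elim (x ∘ Sum.inl) ((aff u w ^ n) (x ∘ Sum.inr)) := by
    intro n
    induction n with
    | zero => intro x; simp
    | succ n ih =>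
      intro x
      rw [pow_succ', Equiv.Perm.mul_apply, ih, pow_succ', Equiv.Perm.mul_apply, aff_apply, aff_apply, inrGL_val,
        Matrix.fromBlocks_mulVec]
      funext i
      rcases i with i | i <;> simp
  refine orderOf_eq_orderOf_iff.2 fun n => ⟨fun h => Equiv.ext fun y => ?_, fun h => Equiv.ext fun x => ?_⟩
  · have h1 := hp n (Sum.elim 0 y)
    rw [h, Equiv.Perm.one_apply] at h1
    have h2 := congrArg (· ∘ Sum.inr) h1
    simpa using h2.symm
  · rw [hp, h, Equiv.Perm.one_apply, Equiv.Perm.one_apply]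
    exact Sum.elim_comp_inl_inr x

theorem orderOf_inl (s : GL ι F) : orderOf (inlGL κ s) = orderOf s :=
  orderOf_injective _ (fun g h e => Units.ext (by
    have := congrArg (fun M : GL (ι ⊕ κ) F => M.val.toBlocks₁₁) e
    simpa [inlGL_val] using this)) s

theorem orderOf_inr' (s : GL κ F) : orderOf (inrGL ι s) = orderOf s :=
  orderOf_injective _ (fun g h e => Units.ext (by
    have := congrArg (fun M : GL (ι ⊕ κ) F => M.val.toBlocks₂₂) e
    simpa [inrGL_val] using this)) s

theorem finrank_fix_inr (u : GL κ F) :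
    finrank F (fixSpace (inrGL ι u)) = Fintype.card ι + finrank F (fixSpace u) := by
  let e : fixSpace (inrGL ι u) ≃ₗ[F] (ι → F) × fixSpace u :=
    { toFun := fun x => (x.1 ∘ Sum.inl, ⟨x.1 ∘ Sum.inr, mem_fixSpace.2 (by
        have := congrArg (· ∘ Sum.inr) (mem_fixSpace.1 x.2)
        simpa [inrGL_val, Matrix.fromBlocks_mulVec] using this)⟩)
      invFun := fun p => ⟨Sum.elim p.1 p.2.1, mem_fixSpace.2 (by
        rw [inrGL_val, Matrix.fromBlocks_mulVec]
        simp [mem_fixSpace.1 p.2.2])⟩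
      map_add' := fun x y => rfl
      map_smul' := fun c x => rfl
      left_inv := fun x => Subtype.ext (Sum.elim_comp_inl_inr x.1)
      right_inv := fun p => rfl }
  rw [e.finrank_eq, Module.finrank_prod, Module.finrank_fintype_fun_eq_card]

/-- An isometry of order `N`. -/
def Tor (Q : (ι → F) → F) (N : ℕ) : Prop := ∃ g ∈ isometryGroup F Q, orderOf g = N

/-- An isometry of order `n`, and an affine map of order `n` whose linear part fixes an even space. -/
def Block (Q : (ι → F) → F) (n : ℕ) : Prop :=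
  Tor Q n ∧ ∃ g ∈ isometryGroup F Q, ∃ v, orderOf (aff g v) = n ∧ Even (finrank F (fixSpace g))

theorem tor_sum {Q : (ι → F) → F} {R : (κ → F) → F} {N M : ℕ} (hQ : Tor Q N) (hR : Tor R M)
    (hcop : N.Coprime M) : Tor (sumQ Q R) (N * M) := by
  obtain ⟨s, hs, rfl⟩ := hQ
  obtain ⟨u, hu, rfl⟩ := hR
  refine ⟨inlGL κ s * inrGL ι u, mul_mem (inlGL_mem hs) (inrGL_mem hu), ?_⟩
  rw [(show Commute (inlGL κ s) (inrGL ι u) from inl_comm_inr s u).orderOf_mul_eq_mul_orderOf_of_coprime (by rw [orderOf_inl, orderOf_inr']; exact hcop),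
    orderOf_inl, orderOf_inr']

/-- A torus element on one summand and a block on the other. -/
theorem block_sum {Q : (ι → F) → F} {R : (κ → F) → F} {B : LinearMap.BilinForm F (ι ⊕ κ → F)}
    (C : Space (sumQ Q R) B) (h8 : Fintype.card (ι ⊕ κ) = 8) (hι : Even (Fintype.card ι)) {N n : ℕ}
    (hQ : Tor Q N) (hN : Odd N) (hR : Block R n) (hcop : N.Coprime n) : Block (sumQ Q R) (N * n) := by
  refine ⟨tor_sum hQ hR.1 hcop, ?_⟩
  obtain ⟨s, hs, rfl⟩ := hQ
  obtain ⟨-, u, hu, w, rfl, hev⟩ := hR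
  have h2 : (2 : F) = 0 := CharTwo.two_eq_zero
  have hh : Fintype.card F ≠ 2 ∨ Fintype.card (ι ⊕ κ) ≠ 4 := Or.inr (by omega)
  refine ⟨inlGL κ s * inrGL ι u, mul_mem (inlGL_mem hs) (inrGL_mem hu), Sum.elim (0 : ι → F) w, ?_, ?_⟩
  · have hfix : (inlGL κ s).val *ᵥ Sum.elim (0 : ι → F) w = Sum.elim (0 : ι → F) w := by
      rw [inlGL_val, Matrix.fromBlocks_mulVec]; simp
    have hc : Commute (aff (inlGL κ s) 0) (aff (inrGL ι u) (Sum.elim (0 : ι → F) w)) := by
      show _ = _
      rw [aff_mul, aff_mul, hfix, Matrix.mulVec_zero, add_zero, zero_add, inl_comm_inr]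
    have hm : aff (inlGL κ s * inrGL ι u) (Sum.elim (0 : ι → F) w) =
        aff (inlGL κ s) 0 * aff (inrGL ι u) (Sum.elim (0 : ι → F) w) := by
      rw [aff_mul, hfix, add_zero]
    rw [hm, hc.orderOf_mul_eq_mul_orderOf_of_coprime, orderOf_aff_zero, orderOf_inl, orderOf_inr]
    rwa [orderOf_aff_zero, orderOf_inl, orderOf_inr]
  · rw [← mem_omegaGL_iff_even C h2 (by omega) (by rw [h8]; decide) hh (mul_mem (inlGL_mem hs) (inrGL_mem hu))]
    refine mul_mem (mem_omegaGL_of_pow C h2 (by omega) hh (inlGL_mem hs) hN ?_) ?_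
    · rw [← orderOf_inl (κ := κ), pow_orderOf_eq_one]
    · rw [mem_omegaGL_iff_even C h2 (by omega) (by rw [h8]; decide) hh (inrGL_mem hu), finrank_fix_inr]
      exact hι.add hev

/-- An isometry of odd order of a space of dimension eight. -/
theorem block_of_tor {Q : (ι → F) → F} {B : LinearMap.BilinForm F (ι → F)} (C : Space Q B)
    (h8 : Fintype.card ι = 8) {N : ℕ} (hQ : Tor Q N) (hN : Odd N) : Block Q N := by
  refine ⟨hQ, ?_⟩
  obtain ⟨g, hg, rfl⟩ := hQ
  have h2 : (2 : F) = 0 := CharTwo.two_eq_zero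
  have hh : Fintype.card F ≠ 2 ∨ Fintype.card ι ≠ 4 := Or.inr (by omega)
  refine ⟨g, hg, 0, orderOf_aff_zero g, ?_⟩
  rw [← mem_omegaGL_iff_even C h2 (by omega) (by rw [h8]; decide) hh hg]
  exact mem_omegaGL_of_pow C h2 (by omega) hh hg hN (pow_orderOf_eq_one g)

/-- Blocks pass along equivalences of forms. -/
theorem block_map {Q : (ι → F) → F} {R : (κ → F) → F} {B : LinearMap.BilinForm F (ι → F)} (C : Space Q B)
    (h : Cfsg.Lib.H3.SylTwo.FormMap Q R) (hcard : Fintype.card ι = Fintype.card κ) {n : ℕ} (hb : Block Q n) :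
    Block R n := by
  obtain ⟨e, he⟩ := h.exists_equiv C hcard
  let Φ : GL ι F ≃* GL κ F := Units.mapEquiv
    (((Matrix.toLinAlgEquiv' (R := F) (n := ι)).trans (e.conjAlgEquiv F)).trans
      (Matrix.toLinAlgEquiv' (R := F) (n := κ)).symm).toMulEquiv
  have hΦ : ∀ (g : GL ι F) (v : ι → F), (Φ g).val *ᵥ e v = e (g.val *ᵥ v) := fun g v => by
    show Matrix.toLinAlgEquiv' ((Matrix.toLinAlgEquiv' (R := F) (n := κ)).symm
      (e.conjAlgEquiv F (Matrix.toLinAlgEquiv' g.val))) (e v) = _
    rw [AlgEquiv.apply_symm_apply]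
    simp
  have hmem : ∀ g, g ∈ isometryGroup F Q → Φ g ∈ isometryGroup F R := fun g hg => mem_iso.2 fun y => by
    obtain ⟨x, rfl⟩ := e.surjective y
    rw [hΦ, he, mem_iso.1 hg, he]
  obtain ⟨⟨g, hg, hgn⟩, h', hh', v, hv, hev⟩ := hb
  refine ⟨⟨Φ g, hmem g hg, (Φ.orderOf_eq g).trans hgn⟩, Φ h', hmem h' hh', e v, ?_, ?_⟩
  · have hconj : aff (Φ h') (e v) = e.toEquiv.permCongrHom (aff h' v) := Equiv.ext fun y => by
      obtain ⟨x, rfl⟩ := e.surjective y
      simp [aff_apply, hΦ, map_add]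
    rw [hconj, MulEquiv.orderOf_eq, hv]
  · have hm : fixSpace (Φ h') = (fixSpace h').map e.toLinearMap := by
      ext y
      obtain ⟨x, rfl⟩ := e.surjective y
      rw [mem_fixSpace, hΦ, e.injective.eq_iff]
      constructor
      · exact fun hx => ⟨x, mem_fixSpace.2 hx, rfl⟩
      · rintro ⟨z, hz, e'⟩
        rw [LinearEquiv.coe_coe] at e'
        obtain rfl := e.injective e'
        exact mem_fixSpace.1 hz
    rw [hm, LinearEquiv.finrank_map_eq]
    exact hev

end Cfsg.Lib.Spec.SpEight
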