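import Cfsg.Agent.Lib.Spec.SpEight.Models

/-!
# Two-parts and the realisation of the maximal orders in the minus space
-/

set_option autoImplicit false
set_option linter.unusedSectionVars false
set_option linter.style.haveILetI false

namespace Cfsg.Lib.Spec.SpEight

open Cfsg Cfsg.Lib.Linear.Orth Module
open scoped Matrix

universe u

variable {ι : Type} [Fintype ι] [DecidableEq ι] {F : Type u} [Field F] [Fintype F] [CharP F 2]

/-- The binary form `z₁² + z₁ z₂ + ζ z₂²`. -/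
def W (ζ : F) (z : Fin 2 → F) : F := z 0 ^ 2 + z 0 * z 1 + ζ * z 1 ^ 2

theorem space_W (ζ : F) : ∃ B, Space (W ζ) B := by
  refine ⟨LinearMap.mk₂ F (fun u v : Fin 2 → F => u 0 * v 1 + u 1 * v 0)
    (fun a b c => by simp; ring) (fun c a b => by simp; ring) (fun a b c => by simp; ring)
    (fun c a b => by simp; ring), fun c v => by simp [W]; ring, fun u v => ?_, fun v hv => ?_⟩
  · simp only [QuadraticMap.polar, W, Pi.add_apply, LinearMap.mk₂_apply]
    linear_combination (u 0 * v 0 + ζ * u 1 * v 1) * (CharTwo.two_eq_zero : (2 : F) = 0)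
  · funext i
    fin_cases i
    · simpa using hv ![0, 1]
    · simpa using hv ![1, 0]

theorem typ_W_zero : Typ (W (0 : F)) 1 1 := by
  refine ⟨space_W 0, by simp, typ_congr (typ_plus one_ne_zero) ?_ (by simp)⟩
  let φ : (Fin 1 ⊕ Fin 1 → F) →ₗ[F] (Fin 2 → F) :=
    { toFun := fun v => ![v (.inl 0), v (.inl 0) + v (.inr 0)]
      map_add' := fun u v => by funext i; fin_cases i <;> simp <;> ring
      map_smul' := fun c v => by funext i; fin_cases i <;> simp <;> ring }
  refine ⟨φ, fun v => ?_⟩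
  simp only [W, φ, LinearMap.coe_mk, AddHom.coe_mk, quadFormPlus, Fin.sum_univ_one, Matrix.cons_val_zero,
    Matrix.cons_val_one]
  linear_combination (v (.inl 0) ^ 2) * (CharTwo.two_eq_zero : (2 : F) = 0)

theorem exists_typ_W_neg : ∃ ζ : F, Typ (W ζ) 1 (-1) := by
  have h2 : (2 : F) = 0 := CharTwo.two_eq_zero
  have hJ := two_card_J (F := F) h2
  obtain ⟨ζ, hζ⟩ : ∃ ζ : F, ∀ u : F, u ^ 2 + u ≠ ζ := by
    by_contra h
    push Not at h
    have : Nat.card F ≤ Nat.card (asHom h2).range :=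
      Nat.card_le_card_of_injective (fun t => (⟨t, h t⟩ : (asHom h2).range))
        fun a b e => congrArg Subtype.val e
    have := Nat.card_pos (α := F)
    omega
  refine ⟨ζ, space_W ζ, by simp, ?_⟩
  have h1 : Nat.card {z : Fin 2 → F // W ζ z = 0} = 1 := by
    have hzero : ∀ z : Fin 2 → F, W ζ z = 0 → z = 0 := fun z hz => by
      rw [W] at hz
      by_cases h : z 1 = 0
      · funext i
        fin_cases i
        · simpa [h] using hz
        · exact h
      · refine absurd ?_ (hζ (z 0 / z 1))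
        field_simp
        linear_combination hz - ζ * z 1 ^ 2 * h2
    rw [Nat.card_eq_one_iff_exists]
    exact ⟨⟨0, by simp [W]⟩, fun z => Subtype.ext (hzero _ z.2)⟩
  rw [defect, h1, Fintype.card_fin]
  push_cast
  ring

theorem exists_gl {L : (ι → F) → (ι → F)} (hadd : ∀ x y, L (x + y) = L x + L y)
    (hsmul : ∀ (c : F) x, L (c • x) = c • L x) (hinj : Function.Injective L) :
    ∃ g : GL ι F, ∀ x, g.val *ᵥ x = L x := by
  let M := LinearMap.toMatrix' ({ toFun := L, map_add' := hadd, map_smul' := hsmul } : (ι → F) →ₗ[F] (ι → F))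
  have hM : ∀ x, M *ᵥ x = L x := fun x => by
    rw [← Matrix.toLin'_apply, Matrix.toLin'_toMatrix']; rfl
  have hu : IsUnit M := Matrix.mulVec_injective_iff_isUnit.1 fun x y h => hinj (by rw [← hM, ← hM]; exact h)
  exact ⟨hu.unit, fun x => hM x⟩

theorem orderOf_four {X : Type*} {p : Equiv.Perm X} {f : X → X} (e : ∀ x, p (p x) = f x) (hf : ∀ x, f (f x) = x)
    {x : X} (hx : f x ≠ x) : orderOf p = 4 := by
  have h2 : ∀ y, (p ^ 2) y = f y := fun y => by rw [sq, Equiv.Perm.mul_apply, e]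
  refine orderOf_eq_prime_pow (p := 2) (n := 1) (fun h => hx ?_) (Equiv.ext fun y => ?_)
  · rw [← h2, show (2 : ℕ) = 2 ^ 1 from rfl, h]; rfl
  · rw [show (2 : ℕ) ^ (1 + 1) = 2 + 2 from rfl, pow_add, Equiv.Perm.mul_apply, h2, h2, hf]; rfl

theorem orderOf_eight {X : Type*} {p : Equiv.Perm X} {f f' : X → X} (e : ∀ x, p (p x) = f x)
    (e' : ∀ x, f (f x) = f' x) (hf : ∀ x, f' (f' x) = x) {x : X} (hx : f' x ≠ x) : orderOf p = 8 := by
  have h2 : ∀ y, (p ^ 2) y = f y := fun y => by rw [sq, Equiv.Perm.mul_apply, e]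
  have h4 : ∀ y, (p ^ 4) y = f' y := fun y => by
    rw [show (4 : ℕ) = 2 + 2 from rfl, pow_add, Equiv.Perm.mul_apply, h2, h2, e']
  refine orderOf_eq_prime_pow (p := 2) (n := 2) (fun h => hx ?_) (Equiv.ext fun y => ?_)
  · rw [← h4, show (4 : ℕ) = 2 ^ 2 from rfl, h]; rfl
  · rw [show (2 : ℕ) ^ (2 + 1) = 4 + 4 from rfl, pow_add, Equiv.Perm.mul_apply, h4, h4, hf]; rfl

theorem injective_of_iterate {X : Type*} {L f : X → X} (e : ∀ x, L (L x) = f x) (hf : Function.Injective f) :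
    Function.Injective L := fun x y h => hf (by rw [← e, ← e, h])

theorem injective_of_sq {X : Type*} {f : X → X} (hf : ∀ x, f (f x) = x) : Function.Injective f :=
  Function.LeftInverse.injective hf

theorem block_two (ζ : F) : Block (W ζ) 2 := by
  haveI : Fact (Nat.Prime 2) := ⟨Nat.prime_two⟩
  have h2 : (2 : F) = 0 := CharTwo.two_eq_zero
  obtain ⟨g, hg⟩ := exists_gl (F := F) (ι := Fin 2) (L := fun z => ![z 0 + z 1, z 1])
    (fun x y => by funext i; fin_cases i <;> simp <;> ring)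
    (fun c x => by funext i; fin_cases i <;> simp <;> ring)
    (injective_of_sq fun z => by funext i; fin_cases i <;> simp [add_assoc, CharTwo.add_self_eq_zero])
  refine ⟨⟨g, mem_iso.2 fun z => ?_, ?_⟩, 1, one_mem _, ![1, 0], ?_, ?_⟩
  · rw [hg]; simp [W]; linear_combination (z 0 * z 1 + z 1 ^ 2) * h2
  · refine orderOf_eq_prime ?_ fun h => ?_
    · refine gl_ext fun z => ?_
      rw [sq, mul_act, hg, hg, Units.val_one, Matrix.one_mulVec]
      funext i; fin_cases i <;> simp [Matrix.vecHead, Matrix.vecTail, add_assoc, CharTwo.add_self_eq_zero]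
    · have := congrFun (hg ![0, 1]) 0
      simp [h] at this
  · refine orderOf_eq_prime (Equiv.ext fun z => ?_) fun h => ?_
    · rw [sq, Equiv.Perm.mul_apply, aff_apply, aff_apply]
      funext i; fin_cases i <;> simp [Matrix.vecHead, Matrix.vecTail, add_assoc, CharTwo.add_self_eq_zero]
    · have := congrFun (Equiv.congr_fun h 0) 0
      simp [aff_apply] at this
  · have : fixSpace (1 : GL (Fin 2) F) = ⊤ := eq_top_iff.2 fun z _ => mem_fixSpace.2 (by simp)
    rw [this, finrank_top, Module.finrank_fintype_fun_eq_card, Fintype.card_fin]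
    decide

/-- A block of order four. -/
theorem block_four (ζ : F) : Block (sumQ (W ζ) (quadFormPlus 1 F)) 4 := by
  have h2 : (2 : F) = 0 := CharTwo.two_eq_zero
  have h3 : (3 : F) = 1 := by linear_combination h2
  have h4 : (4 : F) = 0 := by linear_combination 2 * h2
  let V := Fin 2 ⊕ (Fin 1 ⊕ Fin 1) → F
  let mk : F → F → F → F → V := fun c₁ c₂ x y => Sum.elim ![c₁, c₂] (Sum.elim ![x] ![y])
  let c₁ : V → F := fun v => v (.inl 0)
  let c₂ : V → F := fun v => v (.inl 1)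
  let x : V → F := fun v => v (.inr (.inl 0))
  let y : V → F := fun v => v (.inr (.inr 0))
  let L : V → V := fun v => mk (c₁ v + c₂ v) (c₂ v + y v) (x v + c₁ v + c₂ v + ζ * y v) (y v)
  let L2 : V → V := fun v => mk (c₁ v + y v) (c₂ v) (x v + c₂ v + y v) (y v)
  let K : V → V := fun v => mk (c₁ v + c₂ v) (c₂ v) (y v) (x v)
  let K2 : V → V := fun v => mk (c₁ v + 1) (c₂ v) (x v) (y v)
  have eL : ∀ v, L (L v) = L2 v := fun v => by
    funext i; rcases i with i | i | i <;> fin_cases i <;> simp [L, L2, mk, c₁, c₂, x, y] <;>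
      ring_nf <;> simp [h2, h3, h4]
  have eL2 : ∀ v, L2 (L2 v) = v := fun v => by
    funext i; rcases i with i | i | i <;> fin_cases i <;> simp [L2, mk, c₁, c₂, x, y] <;>
      ring_nf <;> simp [h2, h3, h4]
  have eK : ∀ v, K (K v) = v := fun v => by
    funext i; rcases i with i | i | i <;> fin_cases i <;> simp [K, mk, c₁, c₂, x, y] <;>
      ring_nf <;> simp [h2, h3, h4]
  obtain ⟨g, hg⟩ := exists_gl (L := L)
    (fun u v => by
      funext i; rcases i with i | i | i <;> fin_cases i <;> simp [L, mk, c₁, c₂, x, y] <;> ring)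
    (fun c v => by
      funext i; rcases i with i | i | i <;> fin_cases i <;> simp [L, mk, c₁, c₂, x, y] <;> ring)
    (injective_of_iterate eL (injective_of_sq eL2))
  obtain ⟨h, hh⟩ := exists_gl (L := K)
    (fun u v => by
      funext i; rcases i with i | i | i <;> fin_cases i <;> simp [K, mk, c₁, c₂, x, y] <;> ring)
    (fun c v => by
      funext i; rcases i with i | i | i <;> fin_cases i <;> simp [K, mk, c₁, c₂, x, y] <;> ring)
    (injective_of_sq eK)
  refine ⟨⟨g, mem_iso.2 fun v => ?_, ?_⟩, h, mem_iso.2 fun v => ?_, mk 0 1 0 0, ?_, ?_⟩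
  · rw [hg]
    simp [sumQ, W, quadFormPlus, L, mk, c₁, c₂, x, y]
    ring_nf
    simp [h2, h3, h4]
  · rw [← orderOf_aff_zero]
    refine orderOf_four (f := L2) (fun v => ?_) eL2 (x := mk 0 1 0 0) fun e => ?_
    · simp [aff_apply, hg, eL]
    · have := congrFun e (.inr (.inl 0))
      simp [L2, mk, c₁, c₂, x, y] at this
  · rw [hh]
    simp [sumQ, W, quadFormPlus, K, mk, c₁, c₂, x, y]
    ring_nf
    simp [h2, h3, h4]
  · refine orderOf_four (f := K2) (fun v => ?_) (fun v => ?_) (x := 0) fun e => ?_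
    · simp only [aff_apply, hh]
      funext i; rcases i with i | i | i <;> fin_cases i <;> simp [K, K2, mk, c₁, c₂, x, y] <;>
        ring_nf <;> simp [h2, h3, h4]
    · funext i; rcases i with i | i | i <;> fin_cases i <;> simp [K2, mk, c₁, c₂, x, y] <;>
        ring_nf <;> simp [h2, h3, h4]
    · have := congrFun e (.inl 0)
      simp [K2, mk, c₁, c₂, x, y] at this
  · have hfix : ∀ v, v ∈ fixSpace h ↔ c₂ v = 0 ∧ x v = y v := fun v => by
      rw [mem_fixSpace, hh]
      constructor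
      · intro e
        exact ⟨by simpa [K, mk, c₁, c₂, x, y] using congrFun e (.inl 0),
          by simpa [K, mk, c₁, c₂, x, y] using (congrFun e (.inr (.inr 0)))⟩
      · rintro ⟨e1, e2⟩
        funext i; rcases i with i | i | i <;> fin_cases i <;> simp_all [K, mk, c₁, c₂, x, y]
    let φ : fixSpace h ≃ₗ[F] (Fin 2 → F) :=
      { toFun := fun v => ![c₁ v.1, x v.1]
        invFun := fun p => ⟨mk (p 0) 0 (p 1) (p 1), (hfix _).2 (by simp [mk, c₂, x, y])⟩
        map_add' := fun u v => by funext i; fin_cases i <;> rfl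
        map_smul' := fun c v => by funext i; fin_cases i <;> rfl
        left_inv := fun v => Subtype.ext (by
          obtain ⟨e1, e2⟩ := (hfix _).1 v.2
          funext i; rcases i with i | i | i <;> fin_cases i <;> simp_all [mk, c₁, c₂, x, y])
        right_inv := fun p => by funext i; fin_cases i <;> rfl }
    rw [φ.finrank_eq, Module.finrank_fintype_fun_eq_card, Fintype.card_fin]
    decide

/-- A block of order eight. -/
theorem block_eight (ζ : F) : Block (sumQ (W ζ) (quadFormPlus 2 F)) 8 := by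
  have h2 : (2 : F) = 0 := CharTwo.two_eq_zero
  have h3 : (3 : F) = 1 := by linear_combination h2
  have h4 : (4 : F) = 0 := by linear_combination 2 * h2
  let V := Fin 2 ⊕ (Fin 2 ⊕ Fin 2) → F
  let mk : F → F → F → F → F → F → V := fun c₁ c₂ x₁ x₂ y₁ y₂ =>
    Sum.elim ![c₁, c₂] (Sum.elim ![x₁, x₂] ![y₁, y₂])
  let c₁ : V → F := fun v => v (.inl 0)
  let c₂ : V → F := fun v => v (.inl 1)
  let x₁ : V → F := fun v => v (.inr (.inl 0))
  let x₂ : V → F := fun v => v (.inr (.inl 1))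
  let y₁ : V → F := fun v => v (.inr (.inr 0))
  let y₂ : V → F := fun v => v (.inr (.inr 1))
  let S : V → F := fun v => c₁ v + c₂ v + ζ * y₂ v
  let L : V → V := fun v => mk (c₁ v + c₂ v) (c₂ v + y₂ v) (x₁ v + x₂ v + S v) (x₂ v + S v) (y₁ v) (y₂ v + y₁ v)
  let L2 : V → V := fun v => mk (c₁ v + y₂ v) (c₂ v + y₁ v) (x₁ v + c₁ v + (1 + ζ) * y₂ v + ζ * y₁ v)
    (x₂ v + c₂ v + y₂ v + ζ * y₁ v) (y₁ v) (y₂ v)
  let L4 : V → V := fun v => mk (c₁ v) (c₂ v) (x₁ v + y₂ v) (x₂ v + y₁ v) (y₁ v) (y₂ v)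
  let K : V → V := fun v => mk (c₁ v + c₂ v) (c₂ v + y₂ v) (y₁ v) (x₂ v + S v) (x₁ v) (y₂ v)
  let K' : V → V := fun v => mk (c₁ v + y₂ v) (c₂ v) (x₁ v) (x₂ v + c₂ v + y₂ v) (y₁ v) (y₂ v)
  let F2 : V → V := fun v => mk (c₁ v + y₂ v) (c₂ v + 1) (x₁ v) (x₂ v + c₂ v + y₂ v + ζ) (y₁ v) (y₂ v)
  let F4 : V → V := fun v => mk (c₁ v) (c₂ v) (x₁ v) (x₂ v + 1) (y₁ v) (y₂ v)
  have eL : ∀ v, L (L v) = L2 v := fun v => by
    funext i; rcases i with i | i | i <;> fin_cases i <;> simp [L, L2, S, mk, c₁, c₂, x₁, x₂, y₁, y₂] <;>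
      ring_nf <;> simp [h2, h3, h4]
  have eL2 : ∀ v, L2 (L2 v) = L4 v := fun v => by
    funext i; rcases i with i | i | i <;> fin_cases i <;> simp [L2, L4, mk, c₁, c₂, x₁, x₂, y₁, y₂] <;>
      ring_nf <;> simp [h2, h3, h4]
  have eL4 : ∀ v, L4 (L4 v) = v := fun v => by
    funext i; rcases i with i | i | i <;> fin_cases i <;> simp [L4, mk, c₁, c₂, x₁, x₂, y₁, y₂] <;>
      ring_nf <;> simp [h2, h3, h4]
  have eK : ∀ v, K (K v) = K' v := fun v => by
    funext i; rcases i with i | i | i <;> fin_cases i <;> simp [K, K', S, mk, c₁, c₂, x₁, x₂, y₁, y₂] <;>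
      ring_nf <;> simp [h2, h3, h4]
  have eK' : ∀ v, K' (K' v) = v := fun v => by
    funext i; rcases i with i | i | i <;> fin_cases i <;> simp [K', mk, c₁, c₂, x₁, x₂, y₁, y₂] <;>
      ring_nf <;> simp [h2, h3, h4]
  obtain ⟨g, hg⟩ := exists_gl (L := L)
    (fun u v => by
      funext i; rcases i with i | i | i <;> fin_cases i <;> simp [L, S, mk, c₁, c₂, x₁, x₂, y₁, y₂] <;> ring)
    (fun c v => by
      funext i; rcases i with i | i | i <;> fin_cases i <;> simp [L, S, mk, c₁, c₂, x₁, x₂, y₁, y₂] <;> ring)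
    (injective_of_iterate eL (injective_of_iterate eL2 (injective_of_sq eL4)))
  obtain ⟨h, hh⟩ := exists_gl (L := K)
    (fun u v => by
      funext i; rcases i with i | i | i <;> fin_cases i <;> simp [K, S, mk, c₁, c₂, x₁, x₂, y₁, y₂] <;> ring)
    (fun c v => by
      funext i; rcases i with i | i | i <;> fin_cases i <;> simp [K, S, mk, c₁, c₂, x₁, x₂, y₁, y₂] <;> ring)
    (injective_of_iterate eK (injective_of_sq eK'))
  refine ⟨⟨g, mem_iso.2 fun v => ?_, ?_⟩, h, mem_iso.2 fun v => ?_, mk 0 0 0 0 0 1, ?_, ?_⟩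
  · rw [hg]
    simp [sumQ, W, quadFormPlus, Fin.sum_univ_two, L, S, mk, c₁, c₂, x₁, x₂, y₁, y₂]
    ring_nf
    simp [h2, h3, h4]
  · rw [← orderOf_aff_zero]
    refine orderOf_eight (f := L2) (f' := L4) (fun v => ?_) eL2 eL4 (x := mk 0 0 0 0 1 0) fun e => ?_
    · simp [aff_apply, hg, eL]
    · have := congrFun e (.inr (.inl 1))
      simp [L4, mk, c₁, c₂, x₁, x₂, y₁, y₂] at this
  · rw [hh]
    simp [sumQ, W, quadFormPlus, Fin.sum_univ_two, K, S, mk, c₁, c₂, x₁, x₂, y₁, y₂]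
    ring_nf
    simp [h2, h3, h4]
  · refine orderOf_eight (f := F2) (f' := F4) (fun v => ?_) (fun v => ?_) (fun v => ?_) (x := 0) fun e => ?_
    · simp only [aff_apply, hh]
      funext i; rcases i with i | i | i <;> fin_cases i <;> simp [K, F2, S, mk, c₁, c₂, x₁, x₂, y₁, y₂] <;>
        ring_nf <;> simp [h2, h3, h4]
    · funext i; rcases i with i | i | i <;> fin_cases i <;> simp [F2, F4, mk, c₁, c₂, x₁, x₂, y₁, y₂] <;>
        ring_nf <;> simp [h2, h3, h4]
    · funext i; rcases i with i | i | i <;> fin_cases i <;> simp [F4, mk, c₁, c₂, x₁, x₂, y₁, y₂] <;>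
        ring_nf <;> simp [h2, h3, h4]
    · have := congrFun e (.inr (.inl 1))
      simp [F4, mk, c₁, c₂, x₁, x₂, y₁, y₂] at this
  · have hfix : ∀ v, v ∈ fixSpace h ↔ c₁ v = 0 ∧ c₂ v = 0 ∧ y₂ v = 0 ∧ x₁ v = y₁ v := fun v => by
      rw [mem_fixSpace, hh]
      constructor
      · intro e
        have e1 : c₂ v = 0 := by simpa [K, mk, c₁, c₂] using congrFun e (.inl 0)
        have e2 : y₂ v = 0 := by simpa [K, mk, c₂, y₂] using congrFun e (.inl 1)
        have e3 : c₁ v = 0 := by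
          have := congrFun e (.inr (.inl 1))
          simpa [K, S, mk, x₂, e1, e2] using this
        exact ⟨e3, e1, e2, by simpa [K, mk, x₁, y₁] using congrFun e (.inr (.inr 0))⟩
      · rintro ⟨e1, e2, e3, e4⟩
        funext i; rcases i with i | i | i <;> fin_cases i <;> simp_all [K, S, mk, c₁, c₂, x₁, x₂, y₁, y₂]
    let φ : fixSpace h ≃ₗ[F] (Fin 2 → F) :=
      { toFun := fun v => ![x₁ v.1, x₂ v.1]
        invFun := fun p => ⟨mk 0 0 (p 0) (p 1) (p 0) 0, (hfix _).2 (by simp [mk, c₁, c₂, x₁, y₁, y₂])⟩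
        map_add' := fun u v => by funext i; fin_cases i <;> rfl
        map_smul' := fun c v => by funext i; fin_cases i <;> rfl
        left_inv := fun v => Subtype.ext (by
          obtain ⟨e1, e2, e3, e4⟩ := (hfix _).1 v.2
          funext i; rcases i with i | i | i <;> fin_cases i <;> simp_all [mk, c₁, c₂, x₁, x₂, y₁, y₂])
        right_inv := fun p => by funext i; fin_cases i <;> rfl }
    rw [φ.finrank_eq, Module.finrank_fintype_fun_eq_card, Fintype.card_fin]
    decide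

/-- Every maximal order is realised by a block of the minus space. -/
theorem exists_block {a b : F}
    (hab : ∀ z₁ z₂ : F, z₁ ^ 2 + a * z₁ * z₂ + b * z₂ ^ 2 = 0 → z₁ = 0 ∧ z₂ = 0) {T : ℕ}
    (hT : T ∈ tops (Nat.card F)) : Block (quadFormMinus 3 F a b) T := by
  set q := Nat.card F with hqdef
  have hq : 2 ≤ q := Finite.one_lt_card
  have heven : Even q := by
    rw [hqdef, Nat.card_eq_fintype_card]
    obtain ⟨n, -, hn⟩ := FiniteField.card F 2
    exact hn ▸ (even_two).pow_of_ne_zero n.pos.ne'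
  have hodd1 : ∀ j : ℕ, 0 < j → Odd (q ^ j + 1) := fun j hj => (heven.pow_of_ne_zero hj.ne').add_one
  have hodd2 : ∀ j : ℕ, 0 < j → Odd (q ^ j - 1) := fun j hj =>
    Nat.Even.sub_odd (Nat.one_le_pow _ _ (by omega)) (heven.pow_of_ne_zero hj.ne') odd_one
  have hcop : ∀ {m : ℕ}, Odd (m - 1) → Nat.Coprime (m - 1) (m + 1) := fun {m} hm => by
    have hd1 := Nat.gcd_dvd_left (m - 1) (m + 1)
    have hd2 := Nat.gcd_dvd_right (m - 1) (m + 1)
    obtain ⟨t, ht⟩ := hm
    have hd3 : Nat.gcd (m - 1) (m + 1) ∣ 2 := by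
      have := Nat.dvd_sub hd2 hd1
      rwa [show m + 1 - (m - 1) = 2 by omega] at this
    rcases (Nat.dvd_prime Nat.prime_two).1 hd3 with h | h
    · exact h
    · rw [h] at hd1; obtain ⟨s, hs⟩ := hd1; omega
  have hdm : ∀ j, 0 < j → j % 2 = 1 → q + 1 ∣ q ^ j + 1 ∧ q - 1 ∣ q ^ j - 1 := fun j hj hj2 =>
    ⟨by simpa using Odd.nat_add_dvd_pow_add_pow q 1 (Nat.odd_iff.2 hj2), by simpa using Nat.sub_dvd_pow_sub_pow q 1 j⟩
  have hsq : q ^ 2 - 1 = (q - 1) * (q + 1) := by
    rw [mul_comm]; simpa using Nat.sq_sub_sq q 1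
  have hc31 : Nat.Coprime (q ^ 3 - 1) (q + 1) :=
    (hcop (hodd2 3 (by norm_num))).coprime_dvd_right (hdm 3 (by norm_num) rfl).1
  have hc13 : Nat.Coprime (q ^ 3 + 1) (q - 1) :=
    ((hcop (hodd2 3 (by norm_num))).coprime_dvd_left (hdm 3 (by norm_num) rfl).2).symm
  have hc21 : Nat.Coprime (q ^ 2 + 1) (q + 1) ∧ Nat.Coprime (q ^ 2 + 1) (q - 1) := by
    have h := (hcop (hodd2 2 (by norm_num))).symm
    rw [hsq] at h
    exact ⟨h.coprime_dvd_right (dvd_mul_left _ _), h.coprime_dvd_right (dvd_mul_right _ _)⟩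
  have two : ∀ {N : ℕ}, Odd N → ∀ e : ℕ, N.Coprime (2 ^ e) := fun h e =>
    Nat.Coprime.pow_right _ (Nat.coprime_two_right.2 h)
  have fin : ∀ {ι : Type} [Fintype ι] [DecidableEq ι] {Q : (ι → F) → F} {n : ℕ},
      Typ Q 4 (-1) → Block Q n → Block (quadFormMinus 3 F a b) n := by
    intro ι _ _ Q n hQ hB
    obtain ⟨⟨B, C⟩, hι, -⟩ := id hQ
    exact block_map C (formMap_minus hQ hab) (by rw [hι]; simp) hB
  have comb : ∀ {ι κ : Type} [Fintype ι] [DecidableEq ι] [Fintype κ] [DecidableEq κ] {Q : (ι → F) → F}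
      {R : (κ → F) → F} {k l : ℕ} {ε δ : ℤ} {N e : ℕ}, Typ Q k ε → Typ R l δ → k + l = 4 → ε * δ = -1 →
      Tor Q N → Odd N → Block R (2 ^ e) → Block (quadFormMinus 3 F a b) (N * 2 ^ e) := by
    intro ι κ _ _ _ _ Q R k l ε δ N e hQ hR hkl hs hN hodd hB
    have h := typ_sum hQ hR
    rw [hkl, hs] at h
    obtain ⟨B, C⟩ := h.1
    exact fin h (block_sum C h.2.1 (hQ.2.1 ▸ even_two_mul k) hN hodd hB (two hodd e))
  have odd4 : ∀ {ι : Type} [Fintype ι] [DecidableEq ι] {Q : (ι → F) → F} {N : ℕ},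
      Typ Q 4 (-1) → Tor Q N → Odd N → Block (quadFormMinus 3 F a b) N := by
    intro ι _ _ Q N hQ hN hodd
    obtain ⟨B, C⟩ := hQ.1
    exact fin hQ (block_of_tor C hQ.2.1 hN hodd)
  obtain ⟨ζ, hW⟩ := exists_typ_W_neg (F := F)
  have hW0 := typ_W_zero (F := F)
  have hP : ∀ k : ℕ, k ≠ 0 → Typ (quadFormPlus k F) k 1 := fun k hk => typ_plus hk
  obtain ⟨E1, tE1, rE1⟩ := elliptic (F := F) 1
  obtain ⟨E2, tE2, rE2⟩ := elliptic (F := F) 2
  obtain ⟨E3, tE3, rE3⟩ := elliptic (F := F) 3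
  obtain ⟨E4, tE4, rE4⟩ := elliptic (F := F) 4
  have rP : ∀ k : ℕ, k ≠ 0 → Tor (quadFormPlus k F) (q ^ k - 1) := fun k hk => by
    haveI : NeZero k := ⟨hk⟩
    exact tor_plus k
  rw [← hqdef] at rE1 rE2 rE3 rE4
  rw [pow_one] at rE1
  have rP1 : Tor (quadFormPlus 1 F) (q - 1) := by simpa using rP 1 one_ne_zero
  have o1 : Odd (q + 1) ∧ Odd (q - 1) := by simpa using And.intro (hodd1 1 one_pos) (hodd2 1 one_pos)
  have t4 : ∀ {ζ : F} {ε : ℤ}, Typ (W ζ) 1 ε → Typ (sumQ (W ζ) (quadFormPlus 1 F)) 2 ε := fun {ζ ε} h => by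
    simpa using typ_sum h (hP 1 one_ne_zero)
  have t6 : ∀ {ζ : F} {ε : ℤ}, Typ (W ζ) 1 ε → Typ (sumQ (W ζ) (quadFormPlus 2 F)) 3 ε := fun {ζ ε} h => by
    simpa using typ_sum h (hP 2 two_ne_zero)
  simp only [tops, Finset.mem_insert, Finset.mem_singleton] at hT
  rcases hT with rfl | rfl | rfl | rfl | rfl | rfl | rfl | rfl | rfl | rfl | rfl | rfl
  · exact odd4 tE4 rE4 (hodd1 4 (by norm_num))
  · have hsq4 : q ^ 4 - 1 = (q ^ 2 + 1) * (q ^ 2 - 1) := by
      rw [show q ^ 4 = (q ^ 2) ^ 2 by ring]; simpa using Nat.sq_sub_sq (q ^ 2) 1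
    rw [hsq4]
    refine odd4 (by simpa using typ_sum tE2 (hP 2 two_ne_zero)) (tor_sum rE2 (rP 2 two_ne_zero) ?_) ?_
    · exact (hcop (hodd2 2 (by norm_num))).symm
    · exact (hodd1 2 (by norm_num)).mul (hodd2 2 (by norm_num))
  · exact odd4 (by simpa using typ_sum (hP 3 (by norm_num)) tE1) (tor_sum (rP 3 (by norm_num)) rE1 hc31)
      ((hodd2 3 (by norm_num)).mul o1.1)
  · exact odd4 (by simpa using typ_sum tE3 (hP 1 one_ne_zero)) (tor_sum rE3 rP1 hc13)
      ((hodd1 3 (by norm_num)).mul o1.2)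
  · rw [mul_comm]
    exact comb (e := 1) (hP 3 (by norm_num)) hW rfl (by norm_num) (rP 3 (by norm_num)) (hodd2 3 (by norm_num))
      (block_two ζ)
  · rw [mul_comm]
    exact comb (e := 1) tE3 hW0 rfl (by norm_num) rE3 (hodd1 3 (by norm_num)) (block_two 0)
  · rw [mul_comm]
    exact comb (e := 1) (typ_sum tE2 tE1) hW rfl (by norm_num) (tor_sum rE2 rE1 hc21.1)
      ((hodd1 2 (by norm_num)).mul o1.1) (block_two ζ)
  · rw [mul_comm]
    exact comb (e := 1) (typ_sum tE2 (hP 1 one_ne_zero)) hW0 rfl (by norm_num) (tor_sum rE2 rP1 hc21.2)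
      ((hodd1 2 (by norm_num)).mul o1.2) (block_two 0)
  · rw [mul_comm]
    exact comb (e := 2) tE2 (t4 hW0) rfl (by norm_num) rE2 (hodd1 2 (by norm_num)) (block_four 0)
  · rw [mul_comm]
    exact comb (e := 2) (hP 2 two_ne_zero) (t4 hW) rfl (by norm_num) (rP 2 two_ne_zero) (hodd2 2 (by norm_num))
      (block_four ζ)
  · rw [mul_comm]
    exact comb (e := 3) tE1 (t6 hW0) rfl (by norm_num) rE1 o1.1 (block_eight 0)
  · rw [mul_comm]
    exact comb (e := 3) (hP 1 one_ne_zero) (t6 hW) rfl (by norm_num) rP1 o1.2 (block_eight ζ)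

end Cfsg.Lib.Spec.SpEight
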