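import Cfsg.Agent.Lib.Spec.SpEight.Affine
import Mathlib.FieldTheory.Finite.Extension
import Mathlib.RingTheory.IntegralDomain
import Mathlib.RingTheory.Trace.Basic
import Mathlib.LinearAlgebra.Matrix.ToLin

/-!
# Tori and unipotent blocks
-/

set_option autoImplicit false
set_option linter.unusedSectionVars false
set_option linter.style.haveILetI false

namespace Cfsg.Lib.Spec.SpEight

open Cfsg Cfsg.Lib.Linear.Orth Module Polynomial
open scoped Matrix

universe u

variable {F : Type u} [Field F] [Fintype F] [CharP F 2]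

/-- The split torus. -/
theorem tor_plus (k : ℕ) [NeZero k] :
    Tor (Cfsg.quadFormPlus k F) (Nat.card F ^ k - 1) := by
  classical
  let L := FiniteField.Extension F 2 k
  haveI : Fact (Nat.Prime 2) := ⟨Nat.prime_two⟩
  letI : Fintype L := Fintype.ofFinite L
  obtain ⟨ρ, hρ⟩ := IsCyclic.exists_ofOrder_eq_natCard (α := Lˣ)
  let b : Module.Basis (Fin k) F L := (Module.finBasis F L).reindex (finCongr (FiniteField.finrank_extension F 2 k))
  set A : L →ₐ[F] Matrix (Fin k) (Fin k) F := Algebra.leftMulMatrix b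
  let f : L →* Matrix (Fin k ⊕ Fin k) (Fin k ⊕ Fin k) F :=
    { toFun := fun z => Matrix.fromBlocks (A z) 0 0 (A z⁻¹)ᵀ
      map_one' := by rw [inv_one, map_one, Matrix.transpose_one, Matrix.fromBlocks_one]
      map_mul' := fun y z => by
        rw [Matrix.fromBlocks_multiply, map_mul, mul_inv_rev, map_mul, Matrix.transpose_mul]
        simp }
  let g := Units.map f ρ
  refine ⟨g, mem_iso.2 fun v => ?_, ?_⟩
  · have hQ : ∀ w : Fin k ⊕ Fin k → F, Cfsg.quadFormPlus k F w = (w ∘ Sum.inl) ⬝ᵥ (w ∘ Sum.inr) := fun w => rfl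
    show Cfsg.quadFormPlus k F (Matrix.fromBlocks (A ρ) 0 0 (A (ρ : L)⁻¹)ᵀ *ᵥ v) = _
    rw [hQ, hQ, Matrix.fromBlocks_mulVec, Sum.elim_comp_inl, Sum.elim_comp_inr, Matrix.zero_mulVec,
      Matrix.zero_mulVec, add_zero, zero_add, Matrix.dotProduct_mulVec, Matrix.vecMul_transpose,
      Matrix.mulVec_mulVec, ← map_mul, inv_mul_cancel₀ ρ.ne_zero, map_one, Matrix.one_mulVec]
  · rw [orderOf_injective (Units.map f) (Units.map_injective (fun y z e =>
      (Algebra.leftMulMatrix_injective b) (congrArg Matrix.toBlocks₁₁ e))) ρ, hρ, Nat.card_units,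
      FiniteField.natCard_extension]

/-- The elliptic torus. -/
theorem elliptic (k : ℕ) [NeZero k] :
    ∃ Q : (Fin (2 * k) → F) → F, Typ Q k (-1) ∧ Tor Q (Nat.card F ^ k + 1) := by
  classical
  haveI : Fact (Nat.Prime 2) := ⟨Nat.prime_two⟩
  obtain ⟨m, hm⟩ : ∃ m, m = 2 * k := ⟨_, rfl⟩
  haveI : NeZero m := ⟨by have := NeZero.ne k; omega⟩
  let L := FiniteField.Extension F 2 m
  letI : Fintype L := Fintype.ofFinite L
  haveI : CharP L 2 := charP_of_injective_algebraMap (algebraMap F L).injective 2
  set q := Nat.card F with hqdef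
  have hq : 2 ≤ q := Finite.one_lt_card
  have hk : 1 ≤ k := Nat.pos_of_ne_zero (NeZero.ne k)
  set Q' := q ^ k with hQ'
  have hQ2 : 2 ≤ Q' := le_trans hq (Nat.le_self_pow (NeZero.ne k) q)
  have hcardL : Nat.card L = Q' * Q' := by
    rw [FiniteField.natCard_extension, hQ', ← hqdef, ← pow_add, hm, two_mul]
  let φ : L →+* L := (FiniteField.frobeniusAlgHom F L).toRingHom
  have hφ : ∀ z : L, φ z = z ^ q := fun z => by rw [hqdef, Nat.card_eq_fintype_card]; rfl
  have hφi : ∀ (i : ℕ) (z : L), (φ ^ i) z = z ^ q ^ i := by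
    intro i z
    induction i with
    | zero => simp
    | succ i ih => rw [pow_succ', RingHom.coe_mul, Function.comp_apply, ih, hφ, ← pow_mul, ← pow_succ]
  have halg : ∀ (i : ℕ) (c : F), (algebraMap F L c) ^ q ^ i = algebraMap F L c := fun i c => by
    rw [← map_pow, hqdef, Nat.card_eq_fintype_card, FiniteField.pow_card_pow]
  have hroots : ∀ z : L, z ^ q = z → ∃ c : F, algebraMap F L c = z := by
    intro z hz
    have hne : (Polynomial.X ^ q - Polynomial.X : L[X]) ≠ 0 := FiniteField.X_pow_card_sub_X_ne_zero L hq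
    have hsub : (Finset.univ : Finset F).image (algebraMap F L) ⊆ (X ^ q - X : L[X]).roots.toFinset := fun y hy => by
      obtain ⟨c, -, rfl⟩ := Finset.mem_image.1 hy
      rw [Multiset.mem_toFinset, mem_roots hne, IsRoot, eval_sub, eval_pow, eval_X, sub_eq_zero]
      simpa using halg 1 c
    have hmem : z ∈ (X ^ q - X : L[X]).roots.toFinset := by
      rw [Multiset.mem_toFinset, mem_roots hne, IsRoot, eval_sub, eval_pow, eval_X, hz, sub_self]
    rw [← Finset.eq_of_subset_of_card_le hsub ?_] at hmem
    · obtain ⟨c, -, hc⟩ := Finset.mem_image.1 hmem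
      exact ⟨c, hc⟩
    · rw [Finset.card_image_of_injective _ (algebraMap F L).injective, Finset.card_univ, ← Nat.card_eq_fintype_card]
      exact (Multiset.toFinset_card_le _).trans ((card_roots' _).trans_eq
        (FiniteField.X_pow_card_sub_X_natDegree_eq L hq))
  -- the relative trace
  let T : L →+ L := ∑ i ∈ Finset.range k, ((φ ^ i : L →+* L) : L →+ L)
  have hTi : ∀ z, T z = ∑ i ∈ Finset.range k, z ^ q ^ i := fun z => by
    rw [AddMonoidHom.finsetSum_apply]
    exact Finset.sum_congr rfl fun i _ => hφi i z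
  let N : L → L := fun x => x ^ (Q' + 1)
  have hNfix : ∀ x, N x ^ Q' = N x := fun x => by
    by_cases hx : x = 0
    · simp [N, hx, zero_pow (by omega : Q' ≠ 0)]
    · have h1 : x ^ (Q' * Q' - 1) = 1 := by
        rw [← hcardL, Nat.card_eq_fintype_card]; exact FiniteField.pow_card_sub_one_eq_one x hx
      show (x ^ (Q' + 1)) ^ Q' = x ^ (Q' + 1)
      rw [← pow_mul, show (Q' + 1) * Q' = (Q' * Q' - 1) + (Q' + 1) by
        have : 1 ≤ Q' * Q' := Nat.one_le_iff_ne_zero.2 (mul_ne_zero (by omega) (by omega))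
        rw [add_mul, one_mul]; omega, pow_add, h1, one_mul]
  have hTfix : ∀ e : L, e ^ Q' = e → T e ^ q = T e := fun e he => by
    rw [← hφ, hTi, map_sum]
    simp only [hφ, ← pow_mul, ← pow_succ]
    have h0 := Finset.sum_range_succ' (fun i => e ^ q ^ i) k
    rw [Finset.sum_range_succ (fun i => e ^ q ^ i) k, pow_zero, pow_one, ← hQ', he] at h0
    exact (add_right_cancel h0).symm
  choose Qf hQf using fun x : L => hroots (T (N x)) (hTfix _ (hNfix x))
  let e : (Fin (2 * k) → F) ≃ₗ[F] L :=
    ((Module.finBasis F L).reindex (finCongr ((FiniteField.finrank_extension F 2 m).trans hm))).equivFun.symm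
  let Q : (Fin (2 * k) → F) → F := fun v => Qf (e v)
  have hinj := (algebraMap F L).injective
  -- the polar form
  have hpol : ∀ x y : L, algebraMap F L (Qf (x + y) - Qf x - Qf y) =
      T (x * y ^ Q') + T (y * x ^ Q') := fun x y => by
    rw [map_sub, map_sub, hQf, hQf, hQf, ← map_sub, ← map_sub, ← map_add]
    congr 1
    show (x + y) ^ (Q' + 1) - x ^ (Q' + 1) - y ^ (Q' + 1) = _
    rw [pow_succ, ← hφi, map_add, hφi, hφi, ← hQ']
    ring
  have hadd : ∀ x y : L, (x + y) ^ Q' = x ^ Q' + y ^ Q' := fun x y => by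
    rw [hQ', ← hφi, ← hφi, ← hφi, map_add]
  have hsmul : ∀ (c : F) (x : L), Qf (c • x) = c ^ 2 * Qf x := fun c x => hinj (by
    rw [map_mul, map_pow, hQf, hQf, hTi, hTi, Finset.mul_sum]
    refine Finset.sum_congr rfl fun i _ => ?_
    show ((c • x) ^ (Q' + 1)) ^ q ^ i = algebraMap F L c ^ 2 * _
    rw [Algebra.smul_def, mul_pow, mul_pow, pow_succ (algebraMap F L c), hQ', halg, ← sq, ← pow_mul,
      mul_comm 2, pow_mul, halg])
  let P : (Fin (2 * k) → F) → (Fin (2 * k) → F) → F := fun u v => Qf (e u + e v) - Qf (e u) - Qf (e v)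
  let B : LinearMap.BilinForm F (Fin (2 * k) → F) := LinearMap.mk₂ F P
    (fun u u' v => hinj (by
      simp only [P, map_add (algebraMap F L), hpol, map_add e]
      simp only [hadd, add_mul, mul_add, map_add]
      ring))
    (fun c u v => hinj (by
      simp only [P, map_smul, smul_eq_mul, map_mul, hpol]
      rw [Algebra.smul_def, mul_pow, hQ', halg, mul_assoc, mul_left_comm (e v), hTi, hTi, hTi, hTi, ← Finset.sum_add_distrib,
        ← Finset.sum_add_distrib, Finset.mul_sum]
      refine Finset.sum_congr rfl fun i _ => ?_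
      rw [mul_pow (algebraMap F L c), mul_pow (algebraMap F L c), halg, mul_add]))
    (fun u v v' => hinj (by
      simp only [P, map_add (algebraMap F L), hpol, map_add e]
      simp only [hadd, add_mul, mul_add, map_add]
      ring))
    (fun c u v => hinj (by
      simp only [P, map_smul, smul_eq_mul, map_mul, hpol]
      rw [Algebra.smul_def, mul_pow, hQ', halg, mul_assoc, mul_left_comm (e u), hTi, hTi, hTi, hTi, ← Finset.sum_add_distrib,
        ← Finset.sum_add_distrib, Finset.mul_sum]
      refine Finset.sum_congr rfl fun i _ => ?_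
      rw [mul_pow (algebraMap F L c), mul_pow (algebraMap F L c), halg, mul_add]))
  have C : Space Q B := by
    refine ⟨fun c v => by simp only [Q, map_smul, hsmul], fun u v => by
      show Qf (e (u + v)) - Qf (e u) - Qf (e v) = P u v
      rw [map_add], fun v hv => ?_⟩
    by_contra hne
    have hv0 : e v ≠ 0 := fun h => hne (e.injective (by rw [h, map_zero]))
    -- all traces of the polar form vanish
    let p : L[X] := ∑ i ∈ Finset.range (k + k), Polynomial.C ((e v) ^ (Q' * q ^ i)) * Polynomial.X ^ q ^ i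
    have hzero : ∀ x : L, p.eval x = 0 := fun x => by
      obtain ⟨u, rfl⟩ := e.surjective x
      have h : algebraMap F L (P u v) = 0 := by
        rw [← map_zero (algebraMap F L)]
        congr 1
        have h1 := hv u
        rw [show B u v = P u v from rfl] at h1
        exact h1
      simp only [P, hpol] at h
      rw [← h, hTi, hTi]
      simp only [p, eval_finsetSum, eval_mul, eval_C, eval_pow, eval_X]
      rw [Finset.sum_range_add]
      congr 1
      · exact Finset.sum_congr rfl fun i _ => by rw [mul_pow, ← pow_mul, mul_comm]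
      · refine Finset.sum_congr rfl fun i _ => ?_
        have hQQ : ∀ z : L, z ^ (Q' * Q') = z := fun z => by
          rw [← hcardL, Nat.card_eq_fintype_card]; exact FiniteField.pow_card z
        rw [mul_pow, ← pow_mul, pow_add, ← hQ', ← mul_assoc, pow_mul (e v), hQQ]
    have hdeg : p.natDegree ≤ q ^ (k + k - 1) := natDegree_sum_le_of_forall_le _ _ fun i hi =>
      (natDegree_C_mul_X_pow_le _ _).trans (Nat.pow_le_pow_right (by omega) (by
        have := Finset.mem_range.1 hi; omega))
    have hp : p = 0 := eq_zero_of_natDegree_lt_card_of_eval_eq_zero' p Finset.univ (fun x _ => hzero x) (by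
      rw [Finset.card_univ, ← Nat.card_eq_fintype_card, FiniteField.natCard_extension]
      exact hdeg.trans_lt (Nat.pow_lt_pow_right hq (by omega)))
    have hc := congrArg (fun r : L[X] => r.coeff 1) hp
    simp only [p, finsetSum_coeff, coeff_C_mul_X_pow, coeff_zero] at hc
    rw [Finset.sum_eq_single 0 (fun i _ hi0 => if_neg (fun h => by
      have := Nat.one_lt_pow hi0 (show 1 < q by omega); omega))
      (fun h => absurd (Finset.mem_range.2 (by omega)) h), if_pos (by rw [pow_zero])] at hc
    exact hv0 (eq_zero_of_pow_eq_zero hc)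
  -- counting singular vectors
  have hgen := IsCyclic.exists_ofOrder_eq_natCard (α := Lˣ)
  have hUcard : Nat.card Lˣ = (Q' - 1) * (Q' + 1) := by
    rw [Nat.card_units, hcardL, mul_comm (Q' - 1), ← Nat.sq_sub_sq, one_pow, sq]
  let ν : Lˣ →* Lˣ := powMonoidHom (Q' + 1)
  have hker : Nat.card ν.ker = Q' + 1 := by
    rw [IsCyclic.card_powMonoidHom_ker, hUcard, Nat.gcd_comm]
    exact Nat.gcd_eq_left (dvd_mul_left _ _)
  have hrange : ∀ y : Lˣ, (y : L) ^ Q' = y → y ∈ ν.range := fun y hy => by
    have h1 : (powMonoidHom (Q' - 1) : Lˣ →* Lˣ) y = 1 := Units.ext (by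
      show (y : L) ^ (Q' - 1) = 1
      refine mul_right_cancel₀ y.ne_zero ?_
      rw [← pow_succ, Nat.sub_add_cancel (by omega), hy, one_mul])
    have hle : ν.range ≤ (powMonoidHom (Q' - 1) : Lˣ →* Lˣ).ker := by
      rintro _ ⟨z, rfl⟩
      show (z ^ (Q' + 1)) ^ (Q' - 1) = 1
      rw [← pow_mul, mul_comm, ← hUcard, pow_card_eq_one']
    have hc : Nat.card ν.range = Nat.card (powMonoidHom (Q' - 1) : Lˣ →* Lˣ).ker := by
      rw [IsCyclic.card_powMonoidHom_ker, IsCyclic.card_powMonoidHom_range, hUcard, Nat.gcd_comm,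
        Nat.gcd_eq_left (dvd_mul_left _ _), Nat.gcd_comm, Nat.gcd_eq_left (dvd_mul_right _ _),
        Nat.mul_div_cancel _ (by omega)]
    have heq := Subgroup.eq_of_le_of_card_ge hle hc.ge
    rw [heq]
    exact h1
  let E : AddSubgroup L :=
    { carrier := {y | y ^ Q' = y}
      zero_mem' := zero_pow (by omega)
      add_mem' := fun {y z} hy hz => by
        show (y + z) ^ Q' = y + z
        rw [hQ', ← hφi, map_add, hφi, hφi, ← hQ', hy, hz]
      neg_mem' := fun {y} hy => by
        show (-y) ^ Q' = -y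
        rw [hQ', ← hφi, map_neg, hφi, ← hQ', hy] }
  let TE : E →+ L := T.comp E.subtype
  have hE : Nat.card E = Q' := by
    have e1 : {y : E // y ≠ 0} ≃ ν.range :=
      { toFun := fun y => ⟨Units.mk0 y.1.1 (fun h => y.2 (Subtype.ext h)), hrange _ y.1.2⟩
        invFun := fun z => ⟨⟨(z.1 : L), by
          obtain ⟨w, hw⟩ := z.2
          show ((z.1 : L)) ^ Q' = z.1
          rw [← hw]
          exact hNfix _⟩, fun h => z.1.ne_zero (congrArg Subtype.val h)⟩
        left_inv := fun y => rfl
        right_inv := fun z => Subtype.ext (Units.ext rfl) }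
    have h2 := Nat.card_congr e1
    rw [IsCyclic.card_powMonoidHom_range, hUcard, Nat.gcd_comm, Nat.gcd_eq_left (dvd_mul_left _ _),
      Nat.mul_div_cancel _ (by omega)] at h2
    have h3 : Nat.card E = Nat.card {y : E // y ≠ 0} + 1 := by
      rw [← Nat.card_congr (Equiv.optionSubtypeNe (0 : E)), Finite.card_option]
    omega
  have hkerT : Nat.card TE.ker = q ^ (k - 1) := by
    refine le_antisymm ?_ ?_
    · let pT : L[X] := ∑ i ∈ Finset.range k, Polynomial.X ^ q ^ i
      have hpT : pT.natDegree ≤ q ^ (k - 1) := natDegree_sum_le_of_forall_le _ _ fun i hi => by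
        rw [natDegree_X_pow]; exact Nat.pow_le_pow_right (by omega) (by have := Finset.mem_range.1 hi; omega)
      have hne : pT ≠ 0 := fun h => by
        have hc := congrArg (fun r : L[X] => r.coeff 1) h
        simp only [pT, finsetSum_coeff, coeff_X_pow, coeff_zero] at hc
        rw [Finset.sum_eq_single 0 (fun i _ hi0 => if_neg (fun h => by
          have := Nat.one_lt_pow hi0 (show 1 < q by omega); omega))
          (fun h => absurd (Finset.mem_range.2 (by omega)) h), if_pos (by rw [pow_zero])] at hc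
        exact one_ne_zero hc
      let f : TE.ker → {z // z ∈ pT.roots.toFinset} := fun z => ⟨z.1.1, by
        rw [Multiset.mem_toFinset, mem_roots hne, IsRoot]
        simp only [pT, eval_finsetSum, eval_pow, eval_X]
        rw [← hTi]; exact z.2⟩
      refine (Nat.card_le_card_of_injective f fun a b h => Subtype.ext (Subtype.ext (congrArg Subtype.val h :))).trans ?_
      rw [Nat.card_eq_fintype_card, Fintype.card_coe]
      exact ((Multiset.toFinset_card_le _).trans (card_roots' _)).trans hpT
    · have h1 := TE.ker.card_mul_index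
      rw [AddSubgroup.index_ker, hE] at h1
      have h2 : Nat.card TE.range ≤ q := by
        have hs : ∀ z : TE.range, ∃ c : F, algebraMap F L c = z.1 := fun z => by
          obtain ⟨y, hy⟩ := z.2
          exact hroots _ (hy ▸ hTfix _ y.2)
        choose c hc using hs
        refine (Nat.card_le_card_of_injective c fun a b h => Subtype.ext ?_).trans_eq hqdef.symm
        rw [← hc a, ← hc b, h]
      have h3 : q ^ (k - 1) * q = Q' := by rw [hQ', ← pow_succ, Nat.sub_add_cancel hk]
      by_contra hlt
      push Not at hlt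
      have : Nat.card TE.ker * Nat.card TE.range < q ^ (k - 1) * q :=
        Nat.mul_lt_mul_of_lt_of_le hlt h2 (by omega)
      omega
  have hcount : Nat.card {v : Fin (2 * k) → F // Q v = 0} = 1 + (Q' + 1) * (q ^ (k - 1) - 1) := by
    have e1 : {v : Fin (2 * k) → F // Q v = 0} ≃ {x : L // T (N x) = 0} :=
      e.toEquiv.subtypeEquiv fun v => by
        show Q v = 0 ↔ T (N (e v)) = 0
        rw [← hQf, map_eq_zero]
    let S : Set Lˣ := {y | T (y : L) = 0}
    have e2 : {x : L // T (N x) = 0} ≃ Option {x : Lˣ // ν x ∈ S} :=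
      { toFun := fun x => if h : x.1 = 0 then none else some ⟨Units.mk0 x.1 h, x.2⟩
        invFun := fun o => o.elim ⟨0, by simp [N, zero_pow (show Q' + 1 ≠ 0 by omega)]⟩ fun y => ⟨y.1, y.2⟩
        left_inv := fun x => by
          by_cases h : x.1 = 0
          · simp only [dif_pos h]; exact Subtype.ext h.symm
          · simp only [dif_neg h]; rfl
        right_inv := fun o => by
          rcases o with _ | y
          · simp
          · simp [y.1.ne_zero] }
    have e3 : {x : Lˣ // ν x ∈ S} ≃ {y : ν.range // (y : Lˣ) ∈ S} × ν.ker :=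
      { toFun := fun x => (⟨⟨ν x.1, x.1, rfl⟩, x.2⟩,
          ⟨(Function.surjInv ν.rangeRestrict_surjective ⟨ν x.1, x.1, rfl⟩)⁻¹ * x.1, by
            have := congrArg Subtype.val (Function.surjInv_eq ν.rangeRestrict_surjective ⟨ν x.1, x.1, rfl⟩)
            rw [MonoidHom.mem_ker, map_mul, map_inv]
            change ν _ = _ at this
            rw [this, inv_mul_cancel]⟩)
        invFun := fun p => ⟨Function.surjInv ν.rangeRestrict_surjective p.1.1 * p.2.1, by
          have h1 := congrArg Subtype.val (Function.surjInv_eq ν.rangeRestrict_surjective p.1.1)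
          change ν _ = _ at h1
          rw [map_mul, h1, MonoidHom.mem_ker.1 p.2.2, mul_one]
          exact p.1.2⟩
        left_inv := fun x => Subtype.ext (mul_inv_cancel_left _ _)
        right_inv := fun p => by
          have h1 := congrArg Subtype.val (Function.surjInv_eq ν.rangeRestrict_surjective p.1.1)
          change ν _ = _ at h1
          have h2 : (⟨ν (Function.surjInv ν.rangeRestrict_surjective p.1.1 * p.2.1), _, rfl⟩ : ν.range) = p.1.1 :=
            Subtype.ext ((map_mul ν _ _).trans (by rw [h1, MonoidHom.mem_ker.1 p.2.2, mul_one]))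
          refine Prod.ext (Subtype.ext h2) (Subtype.ext ?_)
          refine Eq.trans (congrArg (fun a => (Function.surjInv ν.rangeRestrict_surjective a)⁻¹ *
            (Function.surjInv ν.rangeRestrict_surjective p.1.1 * p.2.1)) h2) ?_
          rw [inv_mul_cancel_left] }
    have e4 : {y : ν.range // (y : Lˣ) ∈ S} ≃ {z : TE.ker // z ≠ 0} :=
      { toFun := fun y => ⟨⟨⟨(y.1.1 : L), by
          obtain ⟨w, hw⟩ := y.1.2
          show ((y.1.1 : L)) ^ Q' = y.1.1
          rw [← hw]; exact hNfix _⟩, y.2⟩, fun h => y.1.1.ne_zero (congrArg (fun z => z.1.1) h)⟩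
        invFun := fun z => ⟨⟨Units.mk0 z.1.1.1 (fun h => z.2 (Subtype.ext (Subtype.ext h))),
          hrange _ z.1.1.2⟩, z.1.2⟩
        left_inv := fun y => Subtype.ext (Subtype.ext (Units.ext rfl))
        right_inv := fun z => rfl }
    have h4 : Nat.card {z : TE.ker // z ≠ 0} = q ^ (k - 1) - 1 := by
      rw [← hkerT, ← Nat.card_congr (Equiv.optionSubtypeNe (0 : TE.ker)), Finite.card_option, Nat.add_sub_cancel]
    rw [Nat.card_congr (e1.trans e2), Finite.card_option, Nat.card_congr e3, Nat.card_prod, Nat.card_congr e4,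
      h4, hker]
    ring
  refine ⟨Q, ⟨⟨B, C⟩, Fintype.card_fin _, ?_⟩, ?_⟩
  · rw [defect, hcount, Fintype.card_fin, hQ']
    push_cast [Nat.cast_sub (Nat.one_le_pow (k - 1) q (by omega))]
    obtain ⟨j, rfl⟩ : ∃ j, k = j + 1 := ⟨k - 1, by omega⟩
    simp only [Nat.add_sub_cancel, ← hqdef]
    ring
  · obtain ⟨ρ, hρ⟩ := hgen
    set z := ρ ^ (Q' - 1) with hz
    have hzo : orderOf z = Q' + 1 := by
      rw [hz, orderOf_pow, hρ, hUcard, Nat.gcd_comm, Nat.gcd_eq_left (dvd_mul_right _ _),
        Nat.mul_div_cancel_left _ (by omega)]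
    let G : L →* Matrix (Fin (2 * k)) (Fin (2 * k)) F :=
      (((Algebra.lmul F L).toRingHom.toMonoidHom).comp (MonoidHom.id L) |> fun h =>
        ((LinearMap.toMatrixAlgEquiv'.toAlgHom.comp (e.symm.conjAlgEquiv F).toAlgHom).toRingHom.toMonoidHom).comp h)
    have hG : ∀ (y : L) (v : Fin (2 * k) → F), e (G y *ᵥ v) = y * e v := fun y v => by
      show e (LinearMap.toMatrixAlgEquiv' (e.symm.conjAlgEquiv F (Algebra.lmul F L y)) *ᵥ v) = _
      rw [← Matrix.toLinAlgEquiv'_apply, Matrix.toLinAlgEquiv'_toMatrixAlgEquiv']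
      simp
    refine ⟨Units.map G z, mem_iso.2 fun v => hinj ?_, ?_⟩
    · show algebraMap F L (Qf (e (G z *ᵥ v))) = algebraMap F L (Qf (e v))
      rw [hG, hQf, hQf]
      congr 1
      show ((z : L) * e v) ^ (Q' + 1) = e v ^ (Q' + 1)
      rw [mul_pow, ← Units.val_pow_eq_pow_val, ← hzo, pow_orderOf_eq_one, Units.val_one, one_mul]
    · rw [← hzo]
      refine orderOf_injective (Units.map G) (Units.map_injective fun x y h => ?_) z
      have := hG x (e.symm 1)
      rw [h, hG, e.apply_symm_apply, mul_one, mul_one] at this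
      exact this.symm

end Cfsg.Lib.Spec.SpEight
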