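import Cfsg.Agent.Lib.Spec.SpEight.Upper
import Cfsg.Agent.Lib.Spec.SpEight.Blocks
import Cfsg.Agent.Lib.Spec.Unbounded
import Cfsg.Agent.Lib.Linear.OrthInvolutionStd
import Cfsg.Agent.Lib.Linear.SymplecticGroup

/-!
# The spectrum of the symplectic group of dimension eight in characteristic two
-/

set_option autoImplicit false
set_option linter.unusedSectionVars false
set_option linter.style.haveILetI false

namespace Cfsg.Lib.Spec.SpEight

open Cfsg Cfsg.Lib.Linear.Orth Module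
open scoped Matrix

universe u

variable {F : Type u} [Field F] [Fintype F] [CharP F 2]

local notation "Sp8" => Matrix.symplecticGroup (Fin 4) F

/-- The centre of the symplectic group is trivial. -/
noncomputable def pspEquiv : Cfsg.PSp 4 F ≃* Sp8 :=
  (QuotientGroup.quotientMulEquivOfEq (M := Subgroup.center Sp8) (N := ⊥) (eq_bot_iff.2 fun g hg => by
    have h1 : Cfsg.Lib.Linear.Symp.spEquiv g ∈ Subgroup.center _ := by
      rw [Subgroup.mem_center_iff] at hg ⊢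
      intro x
      obtain ⟨y, rfl⟩ := Cfsg.Lib.Linear.Symp.spEquiv.surjective x
      rw [← map_mul, ← map_mul, hg y]
    obtain ⟨a, ha, h⟩ := (Cfsg.Lib.Linear.Symp.mem_center_iff_smul (Cfsg.Lib.Linear.Symp.spB_nondegenerate 4 F)
      (Cfsg.Lib.Linear.Symp.spB_isAlt 4 F) _).1 h1
    have h0 : a - 1 = 0 := mul_self_eq_zero.1 (by
      linear_combination ha + (1 - a) * (CharTwo.two_eq_zero : (2 : F) = 0))
    rw [Subgroup.mem_bot]
    refine Subtype.ext (Matrix.ext_of_mulVec_single fun i => ?_)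
    have h2 := h (Pi.single i 1)
    rw [Cfsg.Lib.Linear.Symp.spEquiv_apply, sub_eq_zero.1 h0, one_smul] at h2
    rw [h2]; exact (Matrix.one_mulVec _).symm)).trans QuotientGroup.quotientBot

/-- The affine maps with linear part in the kernel of the Dickson invariant. -/
def affOmega (Q : (Fin 4 ⊕ Fin 4 → F) → F) : Subgroup (Equiv.Perm (Fin 4 ⊕ Fin 4 → F)) where
  carrier := {p | ∃ g ∈ Cfsg.Geo.omegaGL Q, ∃ v, p = aff g v}
  mul_mem' := by
    rintro _ _ ⟨g, hg, v, rfl⟩ ⟨h, hh, w, rfl⟩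
    exact ⟨g * h, mul_mem hg hh, _, aff_mul g h v w⟩
  one_mem' := ⟨1, one_mem _, 0, aff_one.symm⟩
  inv_mem' := by
    rintro _ ⟨g, hg, v, rfl⟩
    refine ⟨g⁻¹, inv_mem hg, -((g⁻¹ : GL (Fin 4 ⊕ Fin 4) F).val *ᵥ v), inv_eq_of_mul_eq_one_right ?_⟩
    rw [aff_mul, mul_inv_cancel, Matrix.mulVec_neg, act_inv, neg_add_cancel, aff_one]

section Model

variable {Q : (Fin 4 ⊕ Fin 4 → F) → F} (C : Space Q (Cfsg.Lib.Linear.Symp.spB 4 F))
include C

theorem symp_mem {g : GL (Fin 4 ⊕ Fin 4) F} (hg : g ∈ isometryGroup F Q) : g.val ∈ Sp8 :=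
  (Cfsg.Lib.Linear.Symp.mem_symplecticGroup_iff _).2 fun u v => C.B_act hg u v

theorem orderOf_iso_mem {g : GL (Fin 4 ⊕ Fin 4) F} (hg : g ∈ isometryGroup F Q) :
    orderOf g ∈ allowed (Nat.card F) := by
  obtain ⟨n, hn, hpow, -⟩ := exists_exponent (symp_mem C hg)
  rw [Nat.card_eq_fintype_card]
  exact allowed_down hn (orderOf_dvd_of_pow_eq_one (Units.ext (by rw [Units.val_pow_eq_pow_val, hpow]; rfl)))

theorem orderOf_affOmega_mem (p : affOmega Q) : orderOf p ∈ allowed (Nat.card F) := by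
  obtain ⟨g, hg, v, hp⟩ := p.2
  rw [← Subgroup.orderOf_coe p, hp]
  have hgi := omegaGL_le_iso hg
  have hev : Even (finrank F (fixSpace g)) :=
    (mem_omegaGL_iff_even C CharTwo.two_eq_zero (by simp) (by decide) (Or.inr (by simp)) hgi).1 hg
  obtain ⟨n, hn, hpow, hsum⟩ := exists_exponent (symp_mem C hgi)
  have hker : LinearMap.ker (Matrix.toLin' (g.val - 1)) = fixSpace g := by
    ext x
    rw [LinearMap.mem_ker, Matrix.toLin'_apply, Matrix.sub_mulVec, Matrix.one_mulVec, sub_eq_zero, mem_fixSpace]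
  have hs := hsum (by rw [hker]; intro h; rw [h] at hev; exact Nat.not_even_one hev)
  rw [Nat.card_eq_fintype_card]
  refine allowed_down hn (orderOf_dvd_of_pow_eq_one ?_)
  rw [aff_pow, show g ^ n = 1 from Units.ext (by rw [Units.val_pow_eq_pow_val, hpow]; rfl)]
  simp only [Units.val_pow_eq_pow_val]
  rw [← Matrix.sum_mulVec, hs, Matrix.zero_mulVec, aff_one]

variable {a b : F} (hab : ∀ z₁ z₂ : F, z₁ ^ 2 + a * z₁ * z₂ + b * z₂ ^ 2 = 0 → z₁ = 0 ∧ z₂ = 0)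
  (hmap : Cfsg.Lib.H3.SylTwo.FormMap (quadFormMinus 3 F a b) Q)
include hab hmap

theorem exists_orders {m : ℕ} (hm : m ∈ allowed (Nat.card F)) :
    (∃ g ∈ isometryGroup F Q, orderOf g = m) ∧ ∃ p : affOmega Q, orderOf p = m := by
  obtain ⟨T, hT, hmT⟩ := hm
  obtain ⟨B', C'⟩ := exists_space_minus (F := F) 3 a b hab
  obtain ⟨⟨g, hg, hgT⟩, h, hh, v, hv, hev⟩ := block_map C' hmap (by simp) (exists_block hab hT)
  have hT0 : T ≠ 0 := (tops_pos Finite.one_lt_card hT).ne'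
  refine ⟨⟨g ^ (T / m), pow_mem hg _, ?_⟩, ?_⟩
  · subst hgT
    exact orderOf_pow_orderOf_div hT0 hmT
  · let p : affOmega Q := ⟨aff h v, h,
      (mem_omegaGL_iff_even C CharTwo.two_eq_zero (by simp) (by decide) (Or.inr (by simp)) hh).2 hev, v, rfl⟩
    have hp : orderOf p = T := (Subgroup.orderOf_mk _ _).trans hv
    exact ⟨p ^ (T / m), by subst hp; exact orderOf_pow_orderOf_div hT0 hmT⟩

end Model

/-- A model of the minus space with standard alternating polar form. -/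
theorem exists_model {a b : F}
    (hab : ∀ z₁ z₂ : F, z₁ ^ 2 + a * z₁ * z₂ + b * z₂ ^ 2 = 0 → z₁ = 0 ∧ z₂ = 0) :
    ∃ Q : (Fin 4 ⊕ Fin 4 → F) → F, Space Q (Cfsg.Lib.Linear.Symp.spB 4 F) ∧
      Nonempty (↥(isometryGroup F Q) ≃* ↥(isometryGroup F (quadFormMinus 3 F a b))) ∧
      Cfsg.Lib.H3.SylTwo.FormMap (quadFormMinus 3 F a b) Q := by
  obtain ⟨Q, C, he, hA⟩ := Cfsg.Lib.Linear.OrthInvol.minus_model 3 a b hab
  refine ⟨Q, C, he, ?_⟩
  rcases Cfsg.Agent.Lib.Linear.PrimeClasses.classify C (by norm_num : 1 ≤ 4) (by simp) with ⟨h, -⟩ | ⟨ζ, hζ, h, -⟩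
  · exfalso
    obtain ⟨e, he'⟩ := Cfsg.Lib.H3.SylTwo.FormMap.exists_equiv C h (by simp)
    obtain ⟨A, hA', hd⟩ := Cfsg.Lib.Linear.OrthInvol.plus_has_half (F := F) 4
    refine hA ⟨A.map e.symm.toLinearMap, ?_, by rw [LinearEquiv.finrank_map_eq, hd]⟩
    rintro _ ⟨w, hw, rfl⟩
    rw [← hA' w hw, ← e.apply_symm_apply w, he', LinearEquiv.coe_coe, e.symm_apply_apply]
  · obtain ⟨M, hM⟩ := Cfsg.Lib.Linear.AutPO.binary_equiv (m := 3) hab hζ
    obtain ⟨e, he'⟩ := (Cfsg.Lib.H3.SylTwo.FormMap.trans h ⟨Matrix.mulVecLin M.val, hM⟩).exists_equiv C (by simp)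
    exact ⟨e.symm.toLinearMap, fun w => by rw [LinearEquiv.coe_coe, ← he', e.apply_symm_apply]⟩

/-- The spectrum of `PSp₈(q)` and of the full orthogonal group of minus type. -/
theorem range_orders {a b : F}
    (hab : ∀ z₁ z₂ : F, z₁ ^ 2 + a * z₁ * z₂ + b * z₂ ^ 2 = 0 → z₁ = 0 ∧ z₂ = 0) :
    Set.range (orderOf : Cfsg.PSp 4 F → ℕ) = allowed (Nat.card F) ∧
      Set.range (orderOf : ↥(isometryGroup F (quadFormMinus 3 F a b)) → ℕ) = allowed (Nat.card F) := by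
  obtain ⟨Q, C, ⟨e⟩, hmap⟩ := exists_model hab
  constructor <;> refine Set.eq_of_subset_of_subset ?_ fun m hm => ?_
  · rintro _ ⟨x, rfl⟩
    obtain ⟨n, hn, hpow, -⟩ := exists_exponent (pspEquiv x).2
    rw [← pspEquiv.orderOf_eq x, Nat.card_eq_fintype_card]
    exact allowed_down hn (orderOf_dvd_of_pow_eq_one (Subtype.ext (by rw [SubmonoidClass.coe_pow, hpow]; rfl)))
  · obtain ⟨⟨g, hg, rfl⟩, -⟩ := exists_orders C hab hmap hm
    refine ⟨pspEquiv.symm ⟨g.val, symp_mem C hg⟩, ?_⟩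
    rw [MulEquiv.orderOf_eq, ← orderOf_units]
    exact (orderOf_injective (Sp8).subtype Subtype.val_injective _).symm
  · rintro _ ⟨x, rfl⟩
    rw [← e.symm.orderOf_eq x, ← Subgroup.orderOf_coe]
    exact orderOf_iso_mem C (e.symm x).2
  · obtain ⟨⟨g, hg, rfl⟩, -⟩ := exists_orders C hab hmap hm
    exact ⟨e ⟨g, hg⟩, by rw [MulEquiv.orderOf_eq, Subgroup.orderOf_mk]⟩

/-- Unboundedly many groups share this spectrum. -/
theorem exists_large (N : ℕ) :
    ∃ (H : Type) (_ : Group H) (_ : Fintype H), N < Fintype.card H ∧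
      Set.range (orderOf : H → ℕ) = Set.range (orderOf : Cfsg.PSp 4 F → ℕ) := by
  obtain ⟨ζ, hζ, h⟩ : ∃ ζ : F, Typ (W ζ) 1 (-1) ∧ ∀ z₁ z₂ : F, z₁ ^ 2 + 1 * z₁ * z₂ + ζ * z₂ ^ 2 = 0 → z₁ = 0 ∧ z₂ = 0 := by
    obtain ⟨ζ, hW⟩ := exists_typ_W_neg (F := F)
    refine ⟨ζ, hW, fun z₁ z₂ hz => ?_⟩
    have hd := hW.2.2
    rw [defect, Fintype.card_fin] at hd
    have hq : (1 : ℤ) < Nat.card F := by exact_mod_cast Finite.one_lt_card
    have h1 : Nat.card {z : Fin 2 → F // W ζ z = 0} = 1 := by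
      have : (Nat.card F : ℤ) * (Nat.card {z : Fin 2 → F // W ζ z = 0}) = Nat.card F * 1 := by
        linear_combination hd
      exact_mod_cast mul_left_cancel₀ (by omega) this
    obtain ⟨hs, -⟩ := Nat.card_eq_one_iff_unique.1 h1
    have := hs.elim ⟨![z₁, z₂], by simpa [W] using hz⟩ ⟨0, by simp [W]⟩
    exact ⟨congrFun (congrArg Subtype.val this) 0, congrFun (congrArg Subtype.val this) 1⟩
  obtain ⟨Q, C, -, hmap⟩ := exists_model h
  let A : Subgroup (affOmega Q) :=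
    { carrier := {p | ∃ v, (p : Equiv.Perm (Fin 4 ⊕ Fin 4 → F)) = aff 1 v}
      mul_mem' := by
        rintro p p' ⟨v, hv⟩ ⟨w, hw⟩
        exact ⟨w + v, by rw [Subgroup.coe_mul, hv, hw, aff_mul, one_mul, Units.val_one, Matrix.one_mulVec]⟩
      one_mem' := ⟨0, aff_one.symm⟩
      inv_mem' := by
        rintro p ⟨v, hv⟩
        refine ⟨-v, ?_⟩
        rw [Subgroup.coe_inv, hv]
        refine inv_eq_of_mul_eq_one_right ?_
        rw [aff_mul, one_mul, Units.val_one, Matrix.one_mulVec, neg_add_cancel, aff_one] }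
  haveI : A.Normal := ⟨fun p ⟨w, hw⟩ x => by
    obtain ⟨g, hg, v, hx⟩ := x.2
    refine ⟨g.val *ᵥ w, ?_⟩
    rw [Subgroup.coe_mul, Subgroup.coe_mul, Subgroup.coe_inv, hw, hx, mul_inv_eq_iff_eq_mul, aff_mul, aff_mul,
      one_mul, mul_one, Units.val_one, Matrix.one_mulVec, add_comm]⟩
  have hA1 : A ≠ ⊥ := fun hA => by
    have hmem : (⟨aff 1 (Pi.single (.inl 0) 1), 1, one_mem _, _, rfl⟩ : affOmega Q) ∈ A := ⟨_, rfl⟩
    rw [hA, Subgroup.mem_bot] at hmem
    have := (aff_injective ((congrArg Subtype.val hmem).trans aff_one.symm)).2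
    simpa using congrFun this (.inl 0)
  have hA2 : ∀ p ∈ A, p ^ 2 = 1 := fun p ⟨v, hv⟩ => Subtype.ext (by
    rw [SubmonoidClass.coe_pow, hv, sq, aff_mul, one_mul, Units.val_one, Matrix.one_mulVec,
      (funext fun i => CharTwo.add_self_eq_zero (v i) : v + v = 0), aff_one]; rfl)
  obtain ⟨H, i1, i2, hN, hr⟩ := Cfsg.Lib.Spec.exists_isospectral_large A hA1 Nat.prime_two hA2 N
  refine ⟨H, i1, i2, hN, hr.trans ?_⟩
  rw [(range_orders h).1]
  refine Set.eq_of_subset_of_subset ?_ fun m hm => (exists_orders C h hmap hm).2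
  rintro _ ⟨p, rfl⟩
  exact orderOf_affOmega_mem C p

end Cfsg.Lib.Spec.SpEight
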