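import Cfsg.Agent.Lib.Linear.OrthSum
import Cfsg.Agent.Lib.Linear.OrthFixPoint
import Cfsg.Agent.Lib.Linear.SympQuadForms
import Cfsg.Agent.Lib.Linear.PrimeClasses.Embed
import Cfsg.Agent.Lib.Linear.AutPO.MinusFrame
import Cfsg.Agent.Lib.H3.SylTwoDiag
import Cfsg.Agent.Lib.Linear.OrthOrderStd

/-!
# The type of a quadratic space in characteristic two

The defect `q S - q ^ n`, where `S` is the number of singular vectors, is multiplicative on
orthogonal sums up to the factor `q - 1` and tells the two types apart.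
-/

set_option autoImplicit false
set_option linter.unusedSectionVars false
set_option linter.style.haveILetI false

namespace Cfsg.Lib.Spec.SpEight

open Cfsg Cfsg.Lib.Linear.Orth Module
open scoped Matrix

universe u

variable {ι κ : Type} [Fintype ι] [DecidableEq ι] [Fintype κ] [DecidableEq κ]
  {F : Type u} [Field F] [Fintype F] [CharP F 2]

/-- The defect. -/
noncomputable def defect (Q : (ι → F) → F) : ℤ :=
  (Nat.card F : ℤ) * Nat.card {x : ι → F // Q x = 0} - (Nat.card F : ℤ) ^ Fintype.card ι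

/-- A space of dimension `2 * k` and sign `ε`. -/
def Typ (Q : (ι → F) → F) (k : ℕ) (ε : ℤ) : Prop :=
  (∃ B, Space Q B) ∧ Fintype.card ι = 2 * k ∧
    defect Q = ε * ((Nat.card F : ℤ) - 1) * (Nat.card F : ℤ) ^ k

/-- Two spaces of the same dimension connected by a linear map preserving the forms have the same
singular vectors. -/
theorem card_singular_congr {Q : (ι → F) → F} {R : (κ → F) → F} {B : LinearMap.BilinForm F (ι → F)}
    (C : Space Q B) (h : Cfsg.Lib.H3.SylTwo.FormMap Q R) (hcard : Fintype.card ι = Fintype.card κ) :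
    Nat.card {x : ι → F // Q x = 0} = Nat.card {x : κ → F // R x = 0} := by
  obtain ⟨e, he⟩ := h.exists_equiv C hcard
  exact Nat.card_congr (e.toEquiv.subtypeEquiv fun x => by
    show Q x = 0 ↔ R (e x) = 0
    rw [he])

theorem card_fibres {Q : (ι → F) → F} {B : LinearMap.BilinForm F (ι → F)} (C : Space Q B) {c : F} (hc : c ≠ 0) :
    ((Nat.card F : ℤ) - 1) * Nat.card {x : ι → F // Q x = c} + Nat.card {x : ι → F // Q x = 0} =
      (Nat.card F : ℤ) ^ Fintype.card ι := by
  have h2 : (2 : F) = 0 := CharTwo.two_eq_zero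
  have h := card_level C h2 (⊤ : Submodule F (ι → F))
  rw [card_top, sgCount_top, ← card_level_eq C h2 hc] at h
  linear_combination h

theorem typ_sum {Q : (ι → F) → F} {R : (κ → F) → F} {k l : ℕ} {ε δ : ℤ} (hQ : Typ Q k ε) (hR : Typ R l δ) :
    Typ (sumQ Q R) (k + l) (ε * δ) := by
  classical
  obtain ⟨⟨B, C⟩, hι, hdQ⟩ := hQ
  obtain ⟨⟨D, C'⟩, hκ, hdR⟩ := hR
  refine ⟨⟨_, C.sum C'⟩, by rw [Fintype.card_sum, hι, hκ, mul_add], ?_⟩
  have hsum : Nat.card {v : ι ⊕ κ → F // sumQ Q R v = 0} =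
      ∑ c : F, Nat.card {x : ι → F // Q x = c} * Nat.card {y : κ → F // R y = c} := by
    let e : {v : ι ⊕ κ → F // sumQ Q R v = 0} ≃ Σ c : F, {x : ι → F // Q x = c} × {y : κ → F // R y = c} :=
      { toFun := fun v => ⟨Q (v.1 ∘ Sum.inl), ⟨v.1 ∘ Sum.inl, rfl⟩, ⟨v.1 ∘ Sum.inr,
          ((CharTwo.add_eq_zero (R := F)).1 v.2).symm⟩⟩
        invFun := fun p => ⟨Sum.elim p.2.1.1 p.2.2.1, by
          simp [sumQ, p.2.1.2, p.2.2.2, CharTwo.add_self_eq_zero]⟩
        left_inv := fun v => Subtype.ext (funext fun i => by cases i <;> rfl)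
        right_inv := fun p => by
          obtain ⟨c, ⟨x, hx⟩, ⟨y, hy⟩⟩ := p
          subst hx
          rfl }
    rw [Nat.card_congr e, Nat.card_sigma]
    exact Finset.sum_congr rfl fun c _ => Nat.card_prod _ _
  have hq : (Nat.card F : ℤ) - 1 ≠ 0 := by
    have : (1 : ℤ) < Nat.card F := by exact_mod_cast Finite.one_lt_card
    omega
  refine mul_left_cancel₀ hq ?_
  have key : ((Nat.card F : ℤ) - 1) * defect (sumQ Q R) = defect Q * defect R := by
    simp only [defect, hsum, Fintype.card_sum]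
    rw [← Finset.add_sum_erase _ _ (Finset.mem_univ (0 : F))]
    push_cast
    have hrest : ((Nat.card F : ℤ) - 1) ^ 2 * ∑ c ∈ Finset.univ.erase (0 : F),
        (Nat.card {x : ι → F // Q x = c} : ℤ) * Nat.card {y : κ → F // R y = c} =
        ((Nat.card F : ℤ) - 1) * (((Nat.card F : ℤ) ^ Fintype.card ι - Nat.card {x : ι → F // Q x = 0}) *
          ((Nat.card F : ℤ) ^ Fintype.card κ - Nat.card {y : κ → F // R y = 0})) := by
      rw [Finset.mul_sum, Finset.sum_congr rfl (g := fun _ =>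
        ((Nat.card F : ℤ) ^ Fintype.card ι - Nat.card {x : ι → F // Q x = 0}) *
          ((Nat.card F : ℤ) ^ Fintype.card κ - Nat.card {y : κ → F // R y = 0})) fun c hc => ?_,
        Finset.sum_const, Finset.card_erase_of_mem (Finset.mem_univ _), Finset.card_univ, nsmul_eq_mul,
        Nat.card_eq_fintype_card (α := F), Nat.cast_sub Fintype.card_pos, Nat.cast_one]
      rw [← card_fibres C (Finset.ne_of_mem_erase hc), ← card_fibres C' (Finset.ne_of_mem_erase hc)]
      ring
    refine mul_left_cancel₀ hq ?_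
    rw [pow_add]
    linear_combination (Nat.card F : ℤ) * hrest
  rw [key, hdQ, hdR, pow_add]
  ring

theorem typ_congr {Q : (ι → F) → F} {R : (κ → F) → F} {k : ℕ} {ε : ℤ} (hQ : Typ Q k ε)
    (h : Cfsg.Lib.H3.SylTwo.FormMap Q R) (hcard : Fintype.card ι = Fintype.card κ) :
    defect R = ε * ((Nat.card F : ℤ) - 1) * (Nat.card F : ℤ) ^ k := by
  obtain ⟨⟨B, C⟩, -, hd⟩ := hQ
  rw [← hd, defect, defect, card_singular_congr C h hcard, hcard]

theorem defect_plus {k : ℕ} (hk : k ≠ 0) :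
    defect (Cfsg.quadFormPlus k F) = ((Nat.card F : ℤ) - 1) * (Nat.card F : ℤ) ^ k := by
  obtain ⟨h1, -⟩ := counts_plus (F := F) k
  rw [defect, h1 hk, show Fintype.card (Fin k ⊕ Fin k) = k + k by simp]
  obtain ⟨j, rfl⟩ : ∃ j, k = j + 1 := ⟨k - 1, by omega⟩
  simp only [zero_add, Nat.add_sub_cancel]
  ring

theorem typ_plus {k : ℕ} (hk : k ≠ 0) : Typ (Cfsg.quadFormPlus k F) k 1 :=
  ⟨exists_space_plus k, by simp; ring, by rw [defect_plus hk, one_mul]⟩

/-- The minus spaces of dimension eight are equivalent to the standard one. -/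
theorem formMap_minus {Q : (ι → F) → F} (hQ : Typ Q 4 (-1)) {a b : F}
    (hab : ∀ z₁ z₂ : F, z₁ ^ 2 + a * z₁ * z₂ + b * z₂ ^ 2 = 0 → z₁ = 0 ∧ z₂ = 0) :
    Cfsg.Lib.H3.SylTwo.FormMap Q (Cfsg.quadFormMinus 3 F a b) := by
  obtain ⟨⟨B, C⟩, hι, hd⟩ := id hQ
  rcases Cfsg.Agent.Lib.Linear.PrimeClasses.classify C (by norm_num : 1 ≤ 4) hι with ⟨h, -⟩ | ⟨ζ, hζ, h, -⟩
  · exfalso
    have h1 := typ_congr hQ h (by simp [hι])
    rw [defect_plus (by norm_num)] at h1
    have hq : (1 : ℤ) < Nat.card F := by exact_mod_cast Finite.one_lt_card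
    have : 0 < ((Nat.card F : ℤ) - 1) * (Nat.card F : ℤ) ^ 4 := mul_pos (by omega) (pow_pos (by omega) _)
    linarith
  · obtain ⟨M, hM⟩ := Cfsg.Lib.Linear.AutPO.binary_equiv (m := 3) hab hζ
    exact Cfsg.Lib.H3.SylTwo.FormMap.trans h ⟨Matrix.mulVecLin M.val, hM⟩

end Cfsg.Lib.Spec.SpEight
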