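import Cfsg.Agent.Lib.Spec.SpEight.Roots
import Cfsg.Agent.Lib.Linear.SymplecticGroup
import Cfsg.Prelude.Def_Classical
import Mathlib.LinearAlgebra.Eigenspace.Zero
import Mathlib.RingTheory.Polynomial.Basic

/-!
# Exponents for symplectic matrices of size eight

A symplectic matrix has an allowed exponent; if its fixed space is not a line the same exponent
works for the affine maps with that linear part.
-/

set_option autoImplicit false
set_option linter.unusedSectionVars false
set_option linter.style.haveILetI false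
set_option maxRecDepth 4000

namespace Cfsg.Lib.Spec.SpEight

open Matrix Polynomial

variable {F : Type*} [Field F] [Fintype F] [CharP F 2]

local notation "ι" => (Fin 4 ⊕ Fin 4)
local notation "M8" => Matrix (Fin 4 ⊕ Fin 4) (Fin 4 ⊕ Fin 4) F

theorem tops_pos {q T : ℕ} (hq : 2 ≤ q) (h : T ∈ tops q) : 0 < T := by
  have h2 : ∀ k, 1 ≤ k → 1 < q ^ k := fun k hk => Nat.one_lt_pow (by omega) (by omega)
  have := h2 4 (by omega); have := h2 3 (by omega); have := h2 2 (by omega)
  simp only [tops, Finset.mem_insert, Finset.mem_singleton] at h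
  rcases h with rfl | rfl | rfl | rfl | rfl | rfl | rfl | rfl | rfl | rfl | rfl | rfl <;>
    first | omega | (apply Nat.mul_pos <;> first | omega | (apply Nat.mul_pos <;> omega))

theorem allowed_down {q m n : ℕ} (h : m ∈ allowed q) (hn : n ∣ m) : n ∈ allowed q :=
  let ⟨T, hT, hm⟩ := h
  ⟨T, hT, hn.trans hm⟩

theorem reverse_prod {L : Type*} [Field L] (R : Multiset L) (h : ∀ r ∈ R, r ≠ 0) :
    ∃ c : L, c ≠ 0 ∧ (R.map fun r => X - C r).prod.reverse =
      C c * ((R.map (·⁻¹)).map fun r => X - C r).prod := by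
  induction R using Multiset.induction with
  | empty => exact ⟨1, one_ne_zero, by
      rw [Multiset.map_zero, Multiset.prod_zero, Multiset.map_zero, Multiset.map_zero, Multiset.prod_zero, mul_one,
        ← C_1, reverse_C]⟩
  | cons a R ih =>
    obtain ⟨c, hc, e⟩ := ih fun r hr => h r (Multiset.mem_cons_of_mem hr)
    have ha : a ≠ 0 := h a (Multiset.mem_cons_self a R)
    refine ⟨-a * c, mul_ne_zero (neg_ne_zero.2 ha) hc, ?_⟩
    rw [Multiset.map_cons, Multiset.prod_cons, reverse_mul_of_domain, e, Multiset.map_cons, Multiset.map_cons,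
      Multiset.prod_cons]
    have h1 : (X - C a : L[X]).reverse = C (-a) * (X - C a⁻¹) := by
      have h2 : C a * C a⁻¹ = (1 : L[X]) := by rw [← C_mul, mul_inv_cancel₀ ha, C_1]
      refine Polynomial.ext fun i => ?_
      rw [coeff_reverse, natDegree_X_sub_C]
      rcases i with _ | _ | i
      · simp [revAt_le, ha, coeff_C]
      · simp [revAt_le, coeff_C]
      · rw [revAt_eq_self_of_lt (by omega : 1 < i + 2)]
        simp [coeff_X, coeff_C]
    rw [h1, C_mul]
    ring

/-- A self-reciprocal polynomial of degree eight has a closed multiset of roots. -/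
theorem closed_of_reverse [DecidableEq (AlgebraicClosure F)] {P : F[X]} (hmon : P.Monic)
    (hdeg : P.natDegree = 8) (h1 : P.reverse = P) :
    Closed (Fintype.card F) (P.map (algebraMap F (AlgebraicClosure F))).roots := by
  classical
  obtain ⟨f, hf⟩ : ∃ f, f = algebraMap F (AlgebraicClosure F) := ⟨_, rfl⟩
  rw [← hf]
  have hmonic : (P.map f).Monic := hmon.map _
  have hdegm : (P.map f).natDegree = 8 := by rw [natDegree_map, hdeg]
  have hsymm : (P.map f).reverse = P.map f := by
    refine Polynomial.ext fun i => ?_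
    rw [coeff_reverse, natDegree_map, coeff_map, coeff_map, ← coeff_reverse, h1]
  have hsplit : (P.map f).Splits := IsAlgClosed.splits _
  obtain ⟨R, hR⟩ : ∃ R, R = (P.map f).roots := ⟨_, rfl⟩
  rw [← hR]
  have hcard : R.card = 8 := by rw [hR, ← hsplit.natDegree_eq_card_roots, hdegm]
  have h0 : ∀ r ∈ R, r ≠ 0 := by
    rintro r hr rfl
    rw [hR] at hr
    have h := (mem_roots hmonic.ne_zero).1 hr
    rw [IsRoot, ← coeff_zero_eq_eval_zero, ← hsymm, coeff_reverse, revAt_le (Nat.zero_le _), Nat.sub_zero,
      hmonic.coeff_natDegree] at h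
    exact one_ne_zero h
  have hinv : R.map (·⁻¹) = R := by
    obtain ⟨c, hc, e⟩ := reverse_prod R h0
    rw [hR, ← hsplit.eq_prod_roots_of_monic hmonic, hsymm, ← hR] at e
    conv_rhs => rw [hR, e, roots_C_mul _ hc, roots_multiset_prod_X_sub_C]
  haveI : CharP (AlgebraicClosure F) 2 := charP_of_injective_algebraMap
    (algebraMap F (AlgebraicClosure F)).injective 2
  set φ := (FiniteField.frobeniusAlgHom F (AlgebraicClosure F)).toRingHom with hφ
  have hφx : ∀ z : AlgebraicClosure F, φ z = z ^ Fintype.card F := fun z => rfl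
  have hfrob : R.map φ = R := by
    rw [hR, ← hsplit.roots_map φ, Polynomial.map_map, show φ.comp f = f from RingHom.ext fun x => by
      rw [hf]; exact AlgHom.commutes (FiniteField.frobeniusAlgHom F (AlgebraicClosure F)) x]
  refine ⟨Fintype.one_lt_card, hcard, h0, CharTwo.two_eq_zero, φ.injective, fun r => ?_, fun r => ?_⟩
  · conv_lhs => rw [← hinv]
    exact Multiset.count_map_eq_count' _ _ inv_injective r
  · conv_lhs => rw [← hfrob, ← hφx]
    exact Multiset.count_map_eq_count' _ _ φ.injective r

/-- The characteristic polynomial of a symplectic matrix is self-reciprocal. -/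
theorem charpoly_reverse {l : Type*} [Fintype l] [DecidableEq l] {M : Matrix (l ⊕ l) (l ⊕ l) F}
    (hM : M ∈ Matrix.symplecticGroup l F) :
    M.charpoly.natDegree = Fintype.card (l ⊕ l) ∧ M.charpoly.reverse = M.charpoly := by
  have hdet : M.det = 1 := SymplecticGroup.det_eq_one hM
  have hunit : IsUnit M := (Matrix.isUnit_iff_isUnit_det M).2 (by rw [hdet]; exact isUnit_one)
  have h1 := Matrix.charpoly_inv M hunit
  rw [hdet, Ring.inverse_one, map_one, mul_one, Fintype.card_sum,
    Even.neg_one_pow ⟨_, rfl⟩, one_mul] at h1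
  let Ju : (Matrix (l ⊕ l) (l ⊕ l) F)ˣ :=
    ⟨Matrix.J l F, -Matrix.J l F, by rw [mul_neg, Matrix.J_squared, neg_neg],
      by rw [neg_mul, Matrix.J_squared, neg_neg]⟩
  have h2 : M⁻¹.charpoly = M.charpoly := by
    rw [show M = ((⟨M, hM⟩ : Matrix.symplecticGroup l F) : Matrix (l ⊕ l) (l ⊕ l) F) from rfl,
      ← SymplecticGroup.coe_inv',
      SymplecticGroup.coe_inv]
    have h3 := Matrix.charpoly_units_conj' Ju Mᵀ
    rw [show (Ju : Matrix (l ⊕ l) (l ⊕ l) F) = Matrix.J l F from rfl, Matrix.J_inv, Matrix.charpoly_transpose] at h3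
    exact h3
  rw [h2, ← Matrix.reverse_charpoly] at h1
  exact ⟨Matrix.charpoly_natDegree_eq_dim M, h1.symm⟩

/-- Divisibility from the roots. -/
theorem dvd_of_roots [DecidableEq (AlgebraicClosure F)] {P : F[X]} (hP : P.Monic) {N a : ℕ} (hN : 0 < N)
    (h : ∀ r ∈ (P.map (algebraMap F (AlgebraicClosure F))).roots, r ^ N = 1)
    (hc : ∀ r, (P.map (algebraMap F (AlgebraicClosure F))).roots.count r ≤ 2 ^ a) :
    P ∣ X ^ (N * 2 ^ a) - 1 := by
  classical
  rw [← Polynomial.map_dvd_map' (algebraMap F (AlgebraicClosure F))]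
  haveI : CharP (AlgebraicClosure F) 2 := charP_of_injective_algebraMap
    (algebraMap F (AlgebraicClosure F)).injective 2
  simp only [Polynomial.map_sub, Polynomial.map_pow, map_X, Polynomial.map_one]
  have hne : ((X : (AlgebraicClosure F)[X]) ^ N - 1) ≠ 0 := by
    rw [← C_1]
    exact (monic_X_pow_sub_C 1 hN.ne').ne_zero
  rw [(IsAlgClosed.splits (P.map (algebraMap F (AlgebraicClosure F)))).eq_prod_roots_of_monic (hP.map _), pow_mul,
    show ((X : (AlgebraicClosure F)[X]) ^ N) ^ 2 ^ a - 1 = (X ^ N - 1) ^ 2 ^ a by rw [sub_pow_char_pow, one_pow],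
    Multiset.prod_X_sub_C_dvd_iff_le_roots (pow_ne_zero _ hne), roots_pow, Multiset.le_iff_count]
  intro r
  by_cases hr : r ∈ (P.map (algebraMap F (AlgebraicClosure F))).roots
  · rw [Multiset.count_nsmul]
    have h1 : 1 ≤ (X ^ N - 1 : (AlgebraicClosure F)[X]).roots.count r := by
      rw [Multiset.one_le_count_iff_mem, mem_roots hne, IsRoot, eval_sub, eval_pow, eval_X, eval_one, h r hr,
        sub_self]
    exact (hc r).trans (Nat.le_mul_of_pos_right _ h1)
  · rw [Multiset.count_eq_zero.2 hr]
    exact Nat.zero_le _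

/-- An endomorphism nilpotent on a space that is small compared to its kernel. -/
theorem pow_pred_eq_zero {V : Type*} [AddCommGroup V] [Module F V] [FiniteDimensional F V]
    (N : Module.End F V) {m : ℕ} (hm : 1 ≤ m) (hk : Module.finrank F (LinearMap.ker N) ≠ 1)
    (hbd : Module.finrank F (LinearMap.ker (N ^ m)) ≤ m) {x : V} (hx : (N ^ m) x = 0) : (N ^ (m - 1)) x = 0 := by
  by_cases hk0 : Module.finrank F (LinearMap.ker N) = 0
  · have hinj : Function.Injective N := LinearMap.ker_eq_bot.1 (Submodule.finrank_eq_zero.1 hk0)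
    rw [← Nat.sub_add_cancel hm, pow_succ', Module.End.mul_apply] at hx
    exact hinj (hx.trans (map_zero N).symm)
  have hmono : ∀ j, LinearMap.ker (N ^ j) ≤ LinearMap.ker (N ^ (j + 1)) := fun j y hy => by
    rw [LinearMap.mem_ker] at hy ⊢
    rw [pow_succ', Module.End.mul_apply, hy, map_zero]
  by_contra hne
  have hstrict : ∀ j, j + 1 ≤ m - 1 + 1 → LinearMap.ker (N ^ j) < LinearMap.ker (N ^ (j + 1)) := by
    intro j hj
    refine lt_of_le_of_ne (hmono j) fun e => hne ?_
    have hstab := Module.End.ker_pow_constant e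
    have h' : x ∈ LinearMap.ker (N ^ j) := by
      rw [hstab (m - j), show j + (m - j) = m by omega]
      exact hx
    rw [LinearMap.mem_ker] at h'
    rw [show m - 1 = (m - 1 - j) + j by omega, pow_add, Module.End.mul_apply, h', map_zero]
  have hgrow : ∀ j, 1 ≤ j → j ≤ m → j + 1 ≤ Module.finrank F (LinearMap.ker (N ^ j)) := by
    intro j hj hjm
    induction j, hj using Nat.le_induction with
    | base => rw [pow_one]; omega
    | succ j hj ih =>
      have := Submodule.finrank_lt_finrank_of_lt (hstrict j (by omega))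
      have := ih (by omega)
      omega
  have := hgrow m hm le_rfl
  omega

/-- An exponent that also kills the translations when the fixed space is not a line. -/
theorem exists_exponent {M : M8} (hM : M ∈ Matrix.symplecticGroup (Fin 4) F) :
    ∃ n ∈ allowed (Fintype.card F), M ^ n = 1 ∧
      (Module.finrank F (LinearMap.ker (Matrix.toLin' (M - 1))) ≠ 1 → ∑ i ∈ Finset.range n, M ^ i = 0) := by
  classical
  obtain ⟨P, hP⟩ : ∃ P, P = M.charpoly := ⟨_, rfl⟩
  obtain ⟨hd, hrev⟩ := charpoly_reverse (F := F) hM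
  have hPmon : P.Monic := hP ▸ M.charpoly_monic
  have hCH : aeval M P = 0 := by rw [hP]; exact Matrix.aeval_self_charpoly M
  rw [← hP] at hd hrev
  have H := closed_of_reverse hPmon (hd.trans (by rw [Fintype.card_sum, Fintype.card_fin])) hrev
  obtain ⟨N, a, hmem, hN, hc⟩ := H.exists_bound
  have hq : 2 ≤ Fintype.card F := Fintype.one_lt_card
  have hN0 : 0 < N := by
    rcases Nat.eq_zero_or_pos N with rfl | h
    · obtain ⟨T, hT, hd⟩ := hmem
      rw [zero_mul, zero_dvd_iff] at hd
      have := tops_pos hq hT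
      omega
    · exact h
  refine ⟨N * 2 ^ a, hmem, ?_, fun hk => ?_⟩
  · obtain ⟨T, hT⟩ := dvd_of_roots hPmon hN0 hN hc
    have h2 := congrArg (aeval M) hT
    rw [map_mul, hCH, zero_mul, map_sub, map_pow, aeval_X, map_one, sub_eq_zero] at h2
    exact h2
  · obtain ⟨P', hP', hP'0, hann⟩ : ∃ P' : F[X], P'.Monic ∧ ((X - C 1) * P' ∣ X ^ (N * 2 ^ a) - 1) ∧
        aeval M P' = 0 := by
      obtain ⟨m, hm⟩ : ∃ m, m = P.rootMultiplicity 1 := ⟨_, rfl⟩
      rcases Nat.eq_zero_or_pos m with hm0 | hm0
      · refine ⟨P, hPmon, dvd_of_roots ((monic_X_sub_C 1).mul hPmon) hN0 ?_ ?_, hCH⟩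
        all_goals rw [Polynomial.map_mul, Polynomial.map_sub, map_X, map_C, map_one,
          roots_mul (mul_ne_zero (X_sub_C_ne_zero 1) (hPmon.map _).ne_zero), roots_X_sub_C]
        · intro r hr
          rcases Multiset.mem_add.1 hr with h | h
          · rw [Multiset.mem_singleton.1 h, one_pow]
          · exact hN r h
        · intro r
          rw [Multiset.count_add, Multiset.count_singleton]
          split_ifs with h
          · subst h
            rw [count_roots, ← map_one (algebraMap F (AlgebraicClosure F)),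
              ← eq_rootMultiplicity_map (algebraMap F (AlgebraicClosure F)).injective, ← hm, hm0]
            exact Nat.one_le_two_pow
          · simpa using hc r
      obtain ⟨R', hR', -⟩ := exists_eq_pow_rootMultiplicity_mul_and_not_dvd P hPmon.ne_zero 1
      rw [← hm] at hR'
      refine ⟨(X - C 1) ^ (m - 1) * R', ?_, ?_, ?_⟩
      · refine ((monic_X_sub_C (1 : F)).pow (m - 1)).mul ?_
        exact ((monic_X_sub_C (1 : F)).pow m).of_mul_monic_left (hR' ▸ hPmon)
      · rw [← mul_assoc, ← pow_succ', Nat.sub_add_cancel hm0, ← hR']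
        exact dvd_of_roots hPmon hN0 hN hc
      · set T := Matrix.toLin' (M - 1) with hT
        have hAX : ∀ k, aeval M ((X - C (1 : F)) ^ k) = (M - 1) ^ k := fun k => by simp
        have hbd : Module.finrank F (LinearMap.ker (T ^ m)) ≤ m := by
          have h := LinearMap.finrank_genEigenspace_le (Matrix.toLin' M) (1 : F) m
          rw [Module.End.genEigenspace_nat, Matrix.charpoly_toLin', ← hP, ← hm, one_smul] at h
          rw [hT, map_sub, Matrix.toLin'_one]
          exact h
        refine Matrix.toLin'.injective (LinearMap.ext fun v => ?_)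
        rw [map_zero, LinearMap.zero_apply, map_mul, hAX, Matrix.toLin'_mul, Matrix.toLin'_pow, ← hT,
          LinearMap.comp_apply]
        refine pow_pred_eq_zero T hm0 hk hbd ?_
        rw [← LinearMap.comp_apply, hT, ← Matrix.toLin'_pow, ← Matrix.toLin'_mul, ← hAX, ← map_mul, ← hR', hCH,
          map_zero, LinearMap.zero_apply]
    have hg : P' ∣ ∑ i ∈ Finset.range (N * 2 ^ a), X ^ i := by
      obtain ⟨T, hT⟩ := hP'0
      refine ⟨T, mul_right_cancel₀ (X_sub_C_ne_zero (1 : F)) ?_⟩
      rw [map_one, geom_sum_mul, hT, map_one]; ring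
    obtain ⟨T, hT⟩ := hg
    have h2 := congrArg (aeval M) hT
    rwa [map_mul, hann, zero_mul, map_sum, Finset.sum_congr rfl fun i _ => aeval_X_pow M] at h2

end Cfsg.Lib.Spec.SpEight
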